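import Cfsg.Agent.Lib.ThreePrimes.Lack
import Mathlib.GroupTheory.Perm.Cycle.Type
import Mathlib.Tactic.Ring
import Mathlib.Tactic.LinearCombination

/-!
# Counting fixed linear characters under a coprime automorphism
-/

set_option autoImplicit false
set_option linter.style.haveILetI false
set_option linter.unusedSectionVars false

namespace Cfsg.Agent.TwoComp

open Cfsg.Agent

universe u v

/-- A prime-power permutation of a set of order prime to `p` has a fixed point. -/
theorem exists_fixed {X : Type u} [Finite X] {p j : ℕ} (hp : p.Prime) (hX : ¬ p ∣ Nat.card X)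
    (σ : X → X) (hσ : σ^[p ^ j] = id) : ∃ x, σ x = x := by
  classical
  haveI := Fact.mk hp
  haveI := Fintype.ofFinite X
  have hpos : 0 < p ^ j := pow_pos hp.pos _
  have hbij : Function.Bijective σ := by
    constructor
    · intro a b h
      have : σ^[p ^ j] a = σ^[p ^ j] b := by
        rw [show p ^ j = (p ^ j - 1) + 1 by omega, Function.iterate_succ_apply,
          Function.iterate_succ_apply, h]
      simpa [hσ] using this
    · intro a
      refine ⟨σ^[p ^ j - 1] a, ?_⟩
      rw [← Function.iterate_succ_apply' σ, show (p ^ j - 1).succ = p ^ j by omega, hσ, id]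
  have hpow : (Equiv.ofBijective σ hbij) ^ p ^ j = 1 := Equiv.ext fun a => by
    rw [Equiv.Perm.coe_pow]
    exact congrFun hσ a
  rw [Nat.card_eq_fintype_card] at hX
  exact Equiv.Perm.exists_fixed_point_of_prime hX hpow

/-- The iterates of an automorphism on an element moved by a fixed amount. -/
theorem iterate_mul_fixed {Q : Type u} [Group Q] (f : Q → Q)
    (hmul : ∀ a b, f (a * b) = f a * f b) {c s : Q} (h : f c = c * s) (hs : f s = s) :
    ∀ i : ℕ, f^[i] c = c * s ^ i := by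
  intro i
  induction i with
  | zero => simp
  | succ i ih =>
    have hpow : ∀ k : ℕ, f (s ^ k) = s ^ k := by
      intro k
      induction k with
      | zero =>
        have h1 : f 1 * f 1 = f 1 * 1 := by rw [← hmul, mul_one, mul_one]
        rw [pow_zero]; exact mul_left_cancel h1
      | succ k ihk => rw [pow_succ, hmul, ihk, hs]
    rw [Function.iterate_succ_apply', ih, hmul, h, hpow, mul_assoc, ← pow_succ']

section Count

variable {N : Type u} [Group N] [Finite N]

/-- The elements fixed by an automorphism modulo a normal subgroup. -/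
def fixMod (φ : MulAut N) (R : Subgroup N) [R.Normal] : Subgroup N :=
  MonoidHom.eqLocus (QuotientGroup.mk' R) ((QuotientGroup.mk' R).comp φ.toMonoidHom)

theorem mem_fixMod {φ : MulAut N} {R : Subgroup N} [R.Normal] {n : N} :
    n ∈ fixMod φ R ↔ n⁻¹ * φ n ∈ R :=
  QuotientGroup.eq (s := R) (a := n) (b := φ n)

/-- An element moved by an element which is fixed modulo `R` is fixed modulo `R`. -/
theorem fixMod_of_fixMod {p j : ℕ} {φ : MulAut N} (hp : p.Prime) (hφ : φ ^ p ^ j = 1)
    {R : Subgroup N} [R.Normal] (hR : ∀ r ∈ R, φ r ∈ R) {n : N}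
    (hcop : ∃ d : ℕ, ¬ p ∣ d ∧ (n⁻¹ * φ n) ^ d ∈ R) (hn : n⁻¹ * φ n ∈ fixMod φ R) :
    n ∈ fixMod φ R := by
  set π := QuotientGroup.mk' R
  let f : N ⧸ R → N ⧸ R := QuotientGroup.map R R φ.toMonoidHom fun r hr => hR r hr
  have hf : ∀ a : N, f (π a) = π (φ a) := fun a => rfl
  have hit : ∀ (i : ℕ) (a : N), f^[i] (π a) = π ((φ ^ i) a) := by
    intro i
    induction i with
    | zero => intro a; simp
    | succ i ih =>
      intro a
      rw [Function.iterate_succ_apply', ih, hf, pow_succ', MulAut.mul_apply]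
  set s := n⁻¹ * φ n with hs
  have h1 := iterate_mul_fixed f (map_mul _) (c := π n) (s := π s)
    (by rw [hf, ← map_mul, hs, mul_inv_cancel_left])
    (by rw [hf]; exact ((QuotientGroup.eq (s := R)).2 (mem_fixMod.1 hn)).symm) (p ^ j)
  rw [hit, hφ, MulAut.one_apply, left_eq_mul] at h1
  obtain ⟨d, hpd, hd⟩ := hcop
  have h2 : π s ^ d = 1 := by rw [← map_pow]; exact (QuotientGroup.eq_one_iff _).2 hd
  have h3 : π s = 1 := by
    rw [← orderOf_eq_one_iff]
    exact Nat.eq_one_of_dvd_coprimes ((hp.coprime_iff_not_dvd.2 hpd).pow_left j)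
      (orderOf_dvd_of_pow_eq_one h1) (orderOf_dvd_of_pow_eq_one h2)
  exact mem_fixMod.2 ((QuotientGroup.eq_one_iff _).1 h3)

/-- If every orbit has a fixed point and stabilisers are fixed modulo `R`, then the fixed points
are one in `[N : C]` of all points. -/
theorem card_fixed_points {X : Type v} [Finite X] [MulAction N X] (φ : MulAut N)
    (R : Subgroup N) [R.Normal] (σ : X → X) (hσ : ∀ (n : N) (x : X), σ (n • x) = φ n • σ x)
    (hR : ∀ r ∈ R, ∀ x : X, r • x = x)
    (hstab : ∀ n : N, ∀ x : X, σ x = x → φ n • x = n • x → n ∈ fixMod φ R)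
    (horb : ∀ y : X, ∃ n : N, ∃ x : X, σ x = x ∧ n • x = y) :
    Nat.card X = (fixMod φ R).index * Nat.card {x : X // σ x = x} := by
  classical
  set C := fixMod φ R
  choose e x hx hex using horb
  have hcfix : ∀ c ∈ C, ∀ y : X, σ (c • x y) = c • x y := by
    intro c hc y
    rw [hσ, hx, show φ c = c * (c⁻¹ * φ c) by group, mul_smul, hR _ (mem_fixMod.1 hc)]
  let f : X × C → N × {x : X // σ x = x} := fun yc =>
    (e yc.1 * (yc.2 : N)⁻¹, ⟨(yc.2 : N) • x yc.1, hcfix yc.2 yc.2.2 yc.1⟩)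
  have hf : Function.Bijective f := by
    constructor
    · rintro ⟨y, c⟩ ⟨y', c'⟩ h
      obtain ⟨h1, h2⟩ := Prod.mk.inj h
      have h2' : (c : N) • x y = (c' : N) • x y' := congrArg Subtype.val h2
      have hy : y = y' := by
        rw [← hex y, ← hex y', show e y = e y * (c : N)⁻¹ * c by group, mul_smul, h2', h1,
          ← mul_smul, inv_mul_cancel_right]
      subst hy
      exact Prod.ext rfl (Subtype.ext (inv_injective (mul_left_cancel h1)))
    · rintro ⟨n, z, hz⟩
      set y := n • z with hy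
      have hc : (n⁻¹ * e y) • x y = z := by rw [mul_smul, hex, hy, inv_smul_smul]
      have hmem : n⁻¹ * e y ∈ C := hstab _ _ (hx y) (by
        rw [hc]
        have h1 := hσ (n⁻¹ * e y) (x y)
        rwa [hc, hz, hx, eq_comm] at h1)
      refine ⟨(y, ⟨_, hmem⟩), Prod.ext ?_ (Subtype.ext hc)⟩
      show e y * (n⁻¹ * e y)⁻¹ = n
      group
  have h := Nat.card_eq_of_bijective f hf
  rw [Nat.card_prod, Nat.card_prod, ← C.card_mul_index, mul_assoc, mul_comm (Nat.card X)] at h
  exact Nat.eq_of_mul_eq_mul_left Nat.card_pos h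

end Count

/-- `(r^a-1)/(r^b-1)` determines `a` when it exceeds one. -/
theorem exponent_unique {r a b c d k : ℕ} (hr : 2 ≤ r) (hk : 2 ≤ k) (ha : 0 < a) (hc : 0 < c)
    (h1 : r ^ a - 1 = k * (r ^ b - 1)) (h2 : r ^ c - 1 = k * (r ^ d - 1)) : a = c := by
  have key : ∀ {a b : ℕ}, 0 < a → r ^ a - 1 = k * (r ^ b - 1) → 0 < b ∧ b < a := by
    intro a b ha h
    have hra : 1 < r ^ a := Nat.one_lt_pow ha.ne' (by omega)
    have hb : 0 < b := by
      rcases Nat.eq_zero_or_pos b with rfl | hb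
      · simp at h; omega
      · exact hb
    refine ⟨hb, ?_⟩
    by_contra hle
    have h3 : r ^ a ≤ r ^ b := Nat.pow_le_pow_right (by omega) (not_lt.1 hle)
    have h4 : 2 * (r ^ b - 1) ≤ k * (r ^ b - 1) := Nat.mul_le_mul_right _ hk
    omega
  obtain ⟨hb, hba⟩ := key ha h1
  obtain ⟨hd, hdc⟩ := key hc h2
  have hne : ∀ b, 0 < b → 0 < r ^ b - 1 := fun b hb =>
    Nat.sub_pos_of_lt (Nat.one_lt_pow hb.ne' (by omega))
  have hr1 : ∀ n, 1 ≤ r ^ n := fun n => Nat.one_le_pow _ _ (by omega)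
  have hz : ((r : ℤ) ^ a - 1) * ((r : ℤ) ^ d - 1) = ((r : ℤ) ^ c - 1) * ((r : ℤ) ^ b - 1) := by
    have e1 : ((r ^ a - 1 : ℕ) : ℤ) = ((k * (r ^ b - 1) : ℕ) : ℤ) := by rw [h1]
    have e2 : ((r ^ c - 1 : ℕ) : ℤ) = ((k * (r ^ d - 1) : ℕ) : ℤ) := by rw [h2]
    push_cast [Nat.cast_sub (hr1 _)] at e1 e2
    rw [e1, e2]; ring
  have main : ∀ {a b c d : ℕ}, b < a → d < c →
      ((r : ℤ) ^ a - 1) * ((r : ℤ) ^ d - 1) = ((r : ℤ) ^ c - 1) * ((r : ℤ) ^ b - 1) → ¬ b < d := by
    intro a b c d hba hdc hz hbd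
    obtain ⟨i, rfl⟩ : ∃ i, a = b + 1 + i := Nat.exists_eq_add_of_le hba
    obtain ⟨l, rfl⟩ : ∃ l, d = b + 1 + l := Nat.exists_eq_add_of_le hbd
    obtain ⟨m, rfl⟩ : ∃ m, c = b + 1 + m := Nat.exists_eq_add_of_le (by omega)
    have hd1 : (r : ℤ) ^ (b + 1) ∣ (r : ℤ) ^ b := by
      refine ⟨(r : ℤ) ^ (b + m) - (r : ℤ) ^ m - ((r : ℤ) ^ (b + 1 + l + i) - (r : ℤ) ^ i -
        (r : ℤ) ^ l), ?_⟩
      simp only [pow_add, pow_one] at hz ⊢
      linear_combination hz
    rw [← Nat.cast_pow, ← Nat.cast_pow, Int.natCast_dvd_natCast] at hd1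
    have := Nat.le_of_dvd (hr1 b) hd1
    exact absurd this (not_le.2 (Nat.pow_lt_pow_right (by omega) (Nat.lt_succ_self b)))
  have hbd : b = d := le_antisymm (not_lt.1 (main hdc hba hz.symm)) (not_lt.1 (main hba hdc hz))
  subst hbd
  have h3 : r ^ a - 1 = r ^ c - 1 := h1.trans h2.symm
  have := hr1 a
  have := hr1 c
  exact Nat.pow_right_injective hr (by omega : r ^ a = r ^ c)

end Cfsg.Agent.TwoComp
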