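import Cfsg.Agent.Lib.TwoComp.Dual
import Cfsg.Agent.Lib.Char.ItoPSolvable

/-!
# Degrees over extendible characters; the stabilisers of linear characters
-/

set_option autoImplicit false
set_option linter.style.haveILetI false
set_option linter.unusedSectionVars false

namespace Cfsg.Agent.TwoComp

open Cfsg.Agent
open scoped commutatorElement ComplexConjugate

universe u

variable {N : Type u} [Group N] [Finite N]

/-- Inducing a product of an extension and a character trivial below. -/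
theorem ind_degree (P : Subgroup N) [P.Normal] [Fintype P] {θ : P → ℂ}
    (hθ : Cfsg.IsIrrCharacter P θ) {ψ : Char.inertia P θ → ℂ}
    (hψ : Cfsg.IsIrrCharacter _ ψ)
    (hψθ : ∀ (n : P) (hn : (n : N) ∈ Char.inertia P θ), ψ ⟨n, hn⟩ = θ n)
    (β : Cfsg.IrrCharacter (Char.inertia P θ))
    (hβ : ∀ n : Char.inertia P θ, (n : N) ∈ P →
      (β : Char.inertia P θ → ℂ) n = (β : Char.inertia P θ → ℂ) 1) :
    ∃ χ : Cfsg.IrrCharacter N,
      Cfsg.classInner (fun n : P => (χ : N → ℂ) n) θ ≠ 0 ∧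
      Cfsg.charDegree (χ : N → ℂ) = (Char.inertia P θ).index *
        (Cfsg.charDegree (β : Char.inertia P θ → ℂ) * Cfsg.charDegree θ) := by
  classical
  haveI := Fintype.ofFinite N
  haveI : Fintype (Char.inertia P θ) := Fintype.ofFinite _
  have hPI : P ≤ (Char.inertia P θ) := Char.le_inertia P
    (Char.IsCharacter.isClassFunction (Char.IsIrrCharacter.isCharacter hθ))
  haveI : (P.subgroupOf (Char.inertia P θ)).Normal := Subgroup.Normal.subgroupOf inferInstance (Char.inertia P θ)
  haveI : Fintype (P.subgroupOf (Char.inertia P θ)) := Fintype.ofFinite _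
  let e := Subgroup.subgroupOfEquivOfLe hPI
  have hψP : (fun x : P.subgroupOf (Char.inertia P θ) => ψ x) = fun x => θ (e x) :=
    funext fun x => hψθ (e x) x.1.2
  obtain ⟨hgal, -, -⟩ := Char.gallagher_one (P.subgroupOf (Char.inertia P θ)) (Char.IsIrrCharacter.isCharacter hψ)
    (by rw [hψP]; exact Char.IsIrrCharacter.comp hθ e.toMonoidHom e.surjective)
  have hirr := hgal β fun n => hβ n n.2
  have hc : Cfsg.classInner (fun n : P => ((β : (Char.inertia P θ) → ℂ) * ψ) ⟨(n : N), hPI n.2⟩) θ ≠ 0 := by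
    rw [show (fun n : P => ((β : (Char.inertia P θ) → ℂ) * ψ) ⟨(n : N), hPI n.2⟩) = (β : (Char.inertia P θ) → ℂ) 1 • θ from
      funext fun n => by
        rw [Pi.mul_apply, hβ _ n.2, hψθ n (hPI n.2), Pi.smul_apply, smul_eq_mul],
      Char.classInner_smul_left, Char.classInner_self_irr hθ, mul_one]
    exact Char.IsIrrCharacter.one_ne_zero β.2
  obtain ⟨hind, hinner⟩ := Char.clifford_correspondence P hθ rfl hPI hirr hc
  refine ⟨⟨_, hind⟩, by rw [hinner]; exact hc, Nat.cast_injective (R := ℂ) ?_⟩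
  have hψ1 : ψ 1 = θ 1 := hψθ 1 (Char.inertia P θ).one_mem
  show (Cfsg.charDegree (Cfsg.indFun (Char.inertia P θ) ((β : (Char.inertia P θ) → ℂ) * ψ)) : ℂ) = _
  rw [← CharX.deg_spec (Char.IsIrrCharacter.isCharacter hind), Char.indFun_one_apply,
    Pi.mul_apply, hψ1, CharX.deg_spec (Char.IsIrrCharacter.isCharacter β.2),
    CharX.deg_spec (Char.IsIrrCharacter.isCharacter hθ), Nat.cast_mul, Nat.cast_mul]

/-- A Hall normal subgroup gives the degree `index · θ(1)`. -/
theorem degree_of_hall (P : Subgroup N) [P.Normal] (hcop : (Nat.card P).Coprime P.index)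
    [Fintype P] (θ : Cfsg.IrrCharacter P) :
    ∃ χ : Cfsg.IrrCharacter N, Cfsg.charDegree (χ : N → ℂ) =
      (Char.inertia P (θ : P → ℂ)).index * Cfsg.charDegree (θ : P → ℂ) := by
  obtain ⟨ψ, hψ, hψθ⟩ := ThreePrimes.coprime_extension P hcop θ.2
  obtain ⟨χ, -, hχ⟩ := ind_degree P θ.2 hψ hψθ
    ⟨fun _ => 1, Char.isIrrCharacter_one⟩ fun _ _ => rfl
  refine ⟨χ, ?_⟩
  rw [hχ, CharX.charDegree_one, one_mul]

variable {φ : MulAut N} {p q : ℕ}

namespace Hyp

variable (D : Hyp N φ p q)
include D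

/-- If the Sylow `q`-quotient is non-abelian, all degrees are powers of `q`. -/
theorem degree_pow_or_le (T : Subgroup N) [T.Normal] (hT : (Nat.card T).Coprime q) {k : ℕ}
    (hk : T.index = q ^ k) (hna : ¬ commutator N ≤ T) (χ : Cfsg.IrrCharacter N) :
    Cfsg.charDegree (χ : N → ℂ) ∣ q ^ k := by
  classical
  haveI := Fintype.ofFinite N
  haveI : Fintype T := Fintype.ofFinite T
  haveI : Fintype (N ⧸ T) := Fintype.ofFinite _
  obtain ⟨χ0, hχ0⟩ : ∃ χ0 : Cfsg.IrrCharacter (N ⧸ T), (χ0 : N ⧸ T → ℂ) 1 ≠ 1 := by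
    by_contra hall
    simp only [not_exists, ne_eq, not_not] at hall
    haveI := Char.Ito.comm_of_all_linear hall
    refine hna ?_
    rw [commutator_def, Subgroup.commutator_le]
    intro a _ b _
    refine (QuotientGroup.eq_one_iff ⁅a, b⁆).1 ?_
    show ⁅(a : N ⧸ T), (b : N ⧸ T)⁆ = 1
    exact commutatorElement_eq_one_iff_mul_comm.2 (mul_comm' _ _)
  obtain ⟨χq, hχq⟩ := ThreePrimes.deg_lift T χ0
  have hq1 : Cfsg.charDegree (χq : N → ℂ) ≠ 1 := fun h => hχ0 (by
    rw [CharX.irr_deg χ0, ← hχq, h, Nat.cast_one])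
  obtain ⟨a, hak, ha⟩ := (Nat.dvd_prime_pow D.hq).1
    (hk ▸ Subgroup.index_eq_card T ▸ hχq ▸ CharX.irr_deg_dvd_card χ0)
  refine (Char.Ito.degree_dvd_index T ?_ χ).trans hk.dvd
  -- every character of the complement is linear
  refine Char.Ito.comm_of_all_linear fun θ => ?_
  set I := Char.inertia T (θ : T → ℂ) with hI
  have hTI : T ≤ I := Char.le_inertia T
    (Char.IsCharacter.isClassFunction (Char.IsIrrCharacter.isCharacter θ.2))
  set J := I.map (QuotientGroup.mk' T)
  haveI : Fintype J := Fintype.ofFinite J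
  obtain ⟨β0, hβ0⟩ := Char.exists_restrict_constituent χ0.2 J
  let π : I →* J := ((QuotientGroup.mk' T).comp I.subtype).codRestrict J
    fun x => Subgroup.mem_map_of_mem _ x.2
  have hπ : Function.Surjective π := by
    rintro ⟨_, x, hx, rfl⟩
    exact ⟨⟨x, hx⟩, rfl⟩
  let β : Cfsg.IrrCharacter I := ⟨_, Char.IsIrrCharacter.comp β0.2 π hπ⟩
  have hβ : ∀ n : I, (n : N) ∈ T → (β : I → ℂ) n = (β : I → ℂ) 1 := by
    intro n hn
    show (β0 : J → ℂ) (π n) = (β0 : J → ℂ) (π 1)
    refine congrArg _ (Subtype.ext ?_)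
    show ((n : N) : N ⧸ T) = ((1 : N) : N ⧸ T)
    rw [(QuotientGroup.eq_one_iff (n : N)).2 hn, QuotientGroup.mk_one]
  obtain ⟨ψ, hψ, hψθ⟩ := ThreePrimes.coprime_extension T
    (hk ▸ hT.pow_right k : (Nat.card T).Coprime T.index) θ.2
  obtain ⟨ξ, -, hξ⟩ := ind_degree T θ.2 hψ hψθ β hβ
  have hJidx : J.index = I.index :=
    Subgroup.index_map_eq _ (QuotientGroup.mk'_surjective T) (by rw [QuotientGroup.ker_mk']; exact hTI)
  have hβdeg : Cfsg.charDegree (β : I → ℂ) = Cfsg.charDegree (β0 : J → ℂ) := by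
    simp [Cfsg.charDegree, β]
  -- the degree over the quotient character
  have hle : q ^ a ≤ I.index * Cfsg.charDegree (β0 : J → ℂ) := by
    refine Char.degree_le_of_constituent
      (Char.isCharacter_indFun J (Char.IsIrrCharacter.isCharacter β0.2)) χ0.2 ?_ ?_ ?_
    · rw [Char.classInner_indFun_left J _
        (Char.IsCharacter.isClassFunction (Char.IsIrrCharacter.isCharacter χ0.2)),
        Char.classInner_comm_of_isCharacter (Char.IsIrrCharacter.isCharacter β0.2)
          (Char.IsCharacter.restrict (Char.IsIrrCharacter.isCharacter χ0.2) J)]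
      exact hβ0
    · rw [Char.indFun_one_apply, hJidx, CharX.irr_deg, Nat.cast_mul]
    · rw [CharX.irr_deg, ← hχq, ha]
  obtain ⟨i, -, hi⟩ : ∃ i ≤ k + k, I.index * Cfsg.charDegree (β0 : J → ℂ) = q ^ i := by
    refine (Nat.dvd_prime_pow D.hq).1 ?_
    rw [pow_add]
    exact Nat.mul_dvd_mul (hk ▸ Subgroup.index_dvd_of_le hTI)
      (hk ▸ Subgroup.index_eq_card T ▸ (CharX.irr_deg_dvd_card β0).trans
        (Subgroup.card_subgroup_dvd_card J))
  rw [hi] at hle
  have hai : a ≤ i := (Nat.pow_le_pow_iff_right D.hq.one_lt).1 hle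
  have hd : Cfsg.charDegree (ξ : N → ℂ) = q ^ i * Cfsg.charDegree (θ : T → ℂ) := by
    rw [hξ, hβdeg, ← mul_assoc, hi]
  have h1 := D.anti χq ξ hq1 (by rw [ha, hd]; exact (pow_dvd_pow q hai).mul_right _)
  rw [ha, hd] at h1
  rw [CharX.irr_deg, show Cfsg.charDegree (θ : T → ℂ) = 1 from
    Nat.eq_one_of_dvd_coprimes (hT.pow_right a) (CharX.irr_deg_dvd_card θ)
      (h1 ▸ Dvd.intro_left _ rfl), Nat.cast_one]

variable (hW : (Nat.card (commutator N)).Coprime q)
include hW

/-- The degree attached to a linear character of the derived subgroup. -/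
theorem deg_inertia [Fintype (commutator N)] {μ : commutator N →* ℂˣ} (hμ : μ ≠ 1) :
    ∃ χ : Cfsg.IrrCharacter N,
      Cfsg.classInner (fun n : commutator N => (χ : N → ℂ) n) (fun n => (μ n : ℂ)) ≠ 0 ∧
      Cfsg.charDegree (χ : N → ℂ) =
        (Char.inertia (commutator N) fun n : commutator N => (μ n : ℂ)).index ∧
      Cfsg.charDegree (χ : N → ℂ) ≠ 1 := by
  classical
  haveI := Fintype.ofFinite N
  obtain ⟨H, hbot, hsup, -⟩ := D.exists_complement hW
  obtain ⟨ψ, hψ, hψμ⟩ := ThreePrimes.linear_extension (commutator N) H hbot hsup μ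
  obtain ⟨χ, hχ, hd⟩ := ind_degree (commutator N) (Char.isIrrCharacter_linear μ) hψ hψμ
    ⟨fun _ => 1, Char.isIrrCharacter_one⟩ fun _ _ => rfl
  have hμ1 : Cfsg.charDegree (fun n : commutator N => (μ n : ℂ)) = 1 := by
    simp [Cfsg.charDegree]
  rw [CharX.charDegree_one, hμ1, mul_one, mul_one] at hd
  refine ⟨χ, hχ, hd, fun h1 => hμ ?_⟩
  -- a linear character is trivial on the derived subgroup
  obtain ⟨f, hf⟩ := Char.exists_hom_of_degree_one (Char.IsIrrCharacter.isCharacter χ.2)
    (by rw [CharX.irr_deg, h1, Nat.cast_one])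
  have h2 : (fun n : commutator N => (χ : N → ℂ) n) = fun _ => 1 := funext fun n => by
    rw [hf]
    show ((f n : ℂˣ) : ℂ) = 1
    rw [MonoidHom.mem_ker.1 (Abelianization.commutator_subset_ker f n.2), Units.val_one]
  rw [h2] at hχ
  by_contra hne
  exact hχ (Char.classInner_irr_of_ne Char.isIrrCharacter_one (Char.isIrrCharacter_linear μ)
    (ThreePrimes.linear_ne hne).symm)

/-- All non-trivial linear characters of the derived subgroup have the same stabiliser. -/
theorem inertia_eq {μ ν : commutator N →* ℂˣ} (hμ : μ ≠ 1) (hν : ν ≠ 1) :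
    (Char.inertia (commutator N) fun n : commutator N => (μ n : ℂ)) =
      Char.inertia (commutator N) fun n : commutator N => (ν n : ℂ) := by
  classical
  haveI := Fintype.ofFinite N
  haveI : Fintype (commutator N) := Fintype.ofFinite _
  let I : (commutator N →* ℂˣ) → Subgroup N := fun μ =>
    Char.inertia (commutator N) fun n : commutator N => (μ n : ℂ)
  have hmem : ∀ (μ : commutator N →* ℂˣ) (g : N), g ∈ I μ ↔
      μ.comp (Char.conjHom (commutator N) g) = μ := fun μ g => by
    show g ∈ Char.inertia (commutator N) _ ↔ _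
    rw [Char.mem_inertia_iff]
    exact ⟨fun h => MonoidHom.ext fun n => Units.ext (h n),
      fun h n => congrArg Units.val (DFunLike.congr_fun h n)⟩
  have hle : ∀ {μ ν : commutator N →* ℂˣ}, μ ≠ 1 → ν ≠ 1 → I μ ≤ I ν → I μ = I ν := by
    intro μ ν hμ hν hle
    obtain ⟨χ, -, hχ, hχ1⟩ := D.deg_inertia hW hμ
    obtain ⟨χ', -, hχ', hχ'1⟩ := D.deg_inertia hW hν
    have h1 := D.anti χ' χ hχ'1 (by rw [hχ, hχ']; exact Subgroup.index_dvd_of_le hle)
    rw [hχ, hχ'] at h1
    refine le_antisymm hle (Subgroup.relIndex_eq_one.1 ?_)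
    have h3 := Subgroup.relIndex_mul_index hle
    rw [← show (I ν).index = (I μ).index from h1] at h3
    exact (Nat.mul_eq_right Subgroup.index_ne_zero_of_finite).1 h3
  have hWle : ∀ μ : commutator N →* ℂˣ, commutator N ≤ I μ := fun μ => Char.le_inertia _
    (Char.IsCharacter.isClassFunction (Char.IsIrrCharacter.isCharacter (Char.isIrrCharacter_linear μ)))
  have hnorm : ∀ μ : commutator N →* ℂˣ, (I μ).Normal := fun μ => ⟨fun a ha g => by
    have h1 : ⁅g, a⁆ ∈ I μ := hWle μ (Subgroup.commutator_mem_commutator (Subgroup.mem_top g)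
      (Subgroup.mem_top a))
    have h2 := mul_mem h1 ha
    rwa [commutatorElement_def, inv_mul_cancel_right] at h2⟩
  show I μ = I ν
  by_contra hne
  set ρ := μ * ν with hρ
  have hρ1 : ρ ≠ 1 := fun h => hne (le_antisymm (fun g hg => by
      rw [hmem] at hg ⊢
      rw [show ν = μ⁻¹ from MonoidHom.ext fun n =>
        eq_inv_of_mul_eq_one_right (DFunLike.congr_fun h n), MonoidHom.inv_comp, hg])
    (fun g hg => by
      rw [hmem] at hg ⊢
      rw [show μ = ν⁻¹ from MonoidHom.ext fun n =>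
        eq_inv_of_mul_eq_one_left (DFunLike.congr_fun h n), MonoidHom.inv_comp, hg]))
  have hsub : I ρ ≤ I μ ⊓ I ν := by
    intro g hg
    rw [hmem, hρ, MonoidHom.mul_comp] at hg
    set η := μ⁻¹ * μ.comp (Char.conjHom (commutator N) g) with hη
    have hη' : η = ν * (ν.comp (Char.conjHom (commutator N) g))⁻¹ := by
      refine MonoidHom.ext fun n => ?_
      have h := DFunLike.congr_fun hg n
      simp only [hη, MonoidHom.mul_apply, MonoidHom.inv_apply] at h ⊢
      rw [eq_mul_inv_iff_mul_eq, mul_assoc, h, inv_mul_cancel_left]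
    have h1 : I μ ≤ I η := fun s hs => by
      rw [hmem, hη, MonoidHom.mul_comp, MonoidHom.inv_comp]
      have h2 := (hmem _ _).1 ((hnorm μ).conj_mem s hs g)
      rw [(hmem _ _).1 hs]
      congr 1
      conv_rhs => rw [← h2]
      exact MonoidHom.ext fun n => congrArg μ (Subtype.ext (by simp [mul_assoc]))
    have h2 : I ν ≤ I η := fun s hs => by
      rw [hmem, hη', MonoidHom.mul_comp, MonoidHom.inv_comp]
      have h2 := (hmem _ _).1 ((hnorm ν).conj_mem s hs g)
      rw [(hmem _ _).1 hs]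
      congr 2
      conv_rhs => rw [← h2]
      exact MonoidHom.ext fun n => congrArg ν (Subtype.ext (by simp [mul_assoc]))
    have hη1 : η = 1 := by
      by_contra h
      exact hne ((hle hμ h h1).trans (hle hν h h2).symm)
    refine ⟨(hmem μ g).2 ?_, (hmem ν g).2 ?_⟩
    · exact (inv_mul_eq_one.1 hη1).symm
    · exact (mul_inv_eq_one.1 (hη'.symm.trans hη1)).symm
  exact hne ((hle hρ1 hμ (hsub.trans inf_le_left)).symm.trans
    (hle hρ1 hν (hsub.trans inf_le_right)))

end Hyp

end Cfsg.Agent.TwoComp
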