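import Cfsg.Agent.Lib.TwoComp.Hyp
import Cfsg.Agent.Lib.ThreePrimes.Semidirect

/-!
# Orbits on non-trivial linear characters
-/

set_option autoImplicit false
set_option linter.style.haveILetI false
set_option linter.unusedSectionVars false

namespace Cfsg.Agent.TwoComp

open Cfsg.Agent
open scoped commutatorElement ComplexConjugate

universe u

variable {N : Type u} [Group N] [Finite N] (S : Subgroup N) [S.Normal]

/-- Conjugation on non-trivial linear characters. -/
@[reducible] noncomputable def dualAct : MulAction N {μ : S →* ℂˣ // μ ≠ 1} where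
  smul n μ := ⟨μ.1.comp (Char.conjHom S n⁻¹), fun e => μ.2 (MonoidHom.ext fun s => by
    obtain ⟨t, rfl⟩ := Char.conjHom_surjective S n⁻¹ s
    exact DFunLike.congr_fun e t)⟩
  one_smul μ := Subtype.ext (MonoidHom.ext fun s =>
    congrArg (fun z : S => μ.1 z) (Subtype.ext (by simp)))
  mul_smul a b μ := Subtype.ext (MonoidHom.ext fun s =>
    congrArg (fun z : S => μ.1 z) (Subtype.ext (by simp [mul_assoc])))

theorem mem_stab_iff {μ : {μ : S →* ℂˣ // μ ≠ 1}} {n : N} :
    letI := dualAct S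
    n ∈ MulAction.stabilizer N μ ↔ n ∈ Char.inertia S fun s : S => (μ.1 s : ℂ) := by
  letI := dualAct S
  rw [MulAction.mem_stabilizer_iff, ← inv_mem_iff (x := n), ThreePrimes.mem_inertia_linear]
  constructor
  · intro h a b hb
    have h1 := DFunLike.congr_fun (congrArg Subtype.val h) a
    rw [← h1]
    exact congrArg (fun z : S => μ.1 z) (Subtype.ext hb)
  · intro h
    exact Subtype.ext (MonoidHom.ext fun a => h a (Char.conjHom S n⁻¹ a) rfl)

theorem stabilizer_dualAct (μ : {μ : S →* ℂˣ // μ ≠ 1}) :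
    letI := dualAct S
    MulAction.stabilizer N μ = Char.inertia S fun s : S => (μ.1 s : ℂ) :=
  Subgroup.ext fun _ => mem_stab_iff S

variable {φ : MulAut N} {p q : ℕ}

theorem symm_mem {S : Subgroup N} (hSφ : ∀ s ∈ S, φ s ∈ S) {s : N} (hs : s ∈ S) :
    φ.symm s ∈ S := by
  let f : S → S := fun t => ⟨φ t, hSφ t t.2⟩
  have hf : Function.Injective f := fun a b h => Subtype.ext (φ.injective (congrArg Subtype.val h))
  obtain ⟨t, ht⟩ := (Finite.injective_iff_surjective.1 hf) ⟨s, hs⟩
  have h1 : φ (t : N) = s := congrArg Subtype.val ht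
  rw [← h1, φ.symm_apply_apply]
  exact t.2

/-- The fixed non-trivial linear characters are one in `[N : C]` of all of them. -/
theorem dual_equation (D : Hyp N φ p q) (hW : (Nat.card (commutator N)).Coprime q)
    (hSφ : ∀ s ∈ S, φ s ∈ S) (hSW : S ≤ commutator N) (R : Subgroup N) [R.Normal]
    (hRφ : ∀ r ∈ R, φ r ∈ R) (hWR : commutator N ≤ R) (hpR : ¬ p ∣ R.index)
    (hR : ∀ r ∈ R, ∀ μ : S →* ℂˣ, r ∈ Char.inertia S fun s : S => (μ s : ℂ))
    (habove : ∀ μ : S →* ℂˣ, μ ≠ 1 → ∀ [Fintype S], ∃ χ : Cfsg.IrrCharacter N,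
      Cfsg.charDegree (χ : N → ℂ) ≠ 1 ∧
      Cfsg.classInner (fun s : S => (χ : N → ℂ) s) (fun s => (μ s : ℂ)) ≠ 0)
    {r a : ℕ} (hr : r.Prime) (hcard : Nat.card (S →* ℂˣ) = r ^ a) :
    ∃ b, r ^ a - 1 = (fixMod φ R).index * (r ^ b - 1) := by
  classical
  haveI := Fintype.ofFinite N
  haveI : Fintype S := Fintype.ofFinite S
  haveI := Fact.mk hr
  haveI : Finite (S →* ℂˣ) := ThreePrimes.finite_hom S
  letI := dualAct S
  let e : S →* S :=
    { toFun := fun s => ⟨φ.symm s, symm_mem hSφ s.2⟩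
      map_one' := Subtype.ext (map_one _)
      map_mul' := fun x y => Subtype.ext (map_mul _ _ _) }
  have he : Function.Surjective e := fun s => ⟨⟨φ s, hSφ s s.2⟩, Subtype.ext (φ.symm_apply_apply _)⟩
  let σ : {μ : S →* ℂˣ // μ ≠ 1} → {μ : S →* ℂˣ // μ ≠ 1} := fun μ => ⟨μ.1.comp e, fun h => μ.2 (MonoidHom.ext fun s => by
    obtain ⟨t, rfl⟩ := he s
    exact DFunLike.congr_fun h t)⟩
  have hσ : ∀ (n : N) (x : {μ : S →* ℂˣ // μ ≠ 1}), σ (n • x) = φ n • σ x := fun n x => Subtype.ext
    (MonoidHom.ext fun s => by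
      show x.1 (Char.conjHom S n⁻¹ (e s)) = x.1 (e (Char.conjHom S (φ n)⁻¹ s))
      refine congrArg x.1 (Subtype.ext ?_)
      show n⁻¹ * φ.symm s * n⁻¹⁻¹ = φ.symm ((φ n)⁻¹ * s * (φ n)⁻¹⁻¹)
      simp)
  obtain ⟨j, hj⟩ := D.pow
  have hit : ∀ (i : ℕ) (x : {μ : S →* ℂˣ // μ ≠ 1}) (s : S) (h : (φ ^ i).symm (s : N) ∈ S),
      (σ^[i] x).1 s = x.1 ⟨(φ ^ i).symm s, h⟩ := by
    intro i
    induction i with
    | zero => intro x s h; exact congrArg (fun z : S => x.1 z) (Subtype.ext rfl)
    | succ i ih =>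
      intro x s h
      have h' : (φ ^ i).symm (s : N) ∈ S := by
        have := hSφ _ h
        rwa [pow_succ, MulAut.mul_def, MulEquiv.symm_trans_apply, φ.apply_symm_apply] at this
      rw [Function.iterate_succ_apply, ih (σ x) s h']
      exact congrArg (fun z : S => x.1 z) (Subtype.ext (by
        show φ.symm ((φ ^ i).symm (s : N)) = (φ ^ (i + 1)).symm (s : N)
        rw [pow_succ, MulAut.mul_def, MulEquiv.symm_trans_apply]))
  have hper : σ^[p ^ j] = id := funext fun x => Subtype.ext (MonoidHom.ext fun s => by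
    have h : (φ ^ p ^ j).symm (s : N) ∈ S := by rw [hj]; exact s.2
    rw [hit _ x s h]
    exact congrArg (fun z : S => x.1 z) (Subtype.ext (by
      show (φ ^ p ^ j).symm (s : N) = s
      rw [hj]; rfl)))
  -- every orbit is invariant
  have horbit : ∀ y : {μ : S →* ℂˣ // μ ≠ 1}, ∀ z ∈ MulAction.orbit N y, σ z ∈ MulAction.orbit N y := by
    intro y
    obtain ⟨χ, hχ1, hχ⟩ := habove y.1 y.2
    have hχσ : Cfsg.classInner (fun s : S => (χ : N → ℂ) s) (fun s => ((σ y).1 s : ℂ)) ≠ 0 := by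
      have hb : Function.Bijective e := ⟨Finite.injective_iff_surjective.2 he, he⟩
      have heq : Cfsg.classInner (fun s : S => (χ : N → ℂ) s) (fun s => ((σ y).1 s : ℂ)) =
          Cfsg.classInner (fun s : S => (χ : N → ℂ) s) (fun s => (y.1 s : ℂ)) := by
        simp only [Cfsg.classInner]
        congr 1
        refine Fintype.sum_equiv (Equiv.ofBijective e hb) _ _ fun s => ?_
        have : (χ : N → ℂ) (e s : N) = (χ : N → ℂ) s := by
          conv_rhs => rw [← φ.apply_symm_apply (s : N), D.inv χ hχ1]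
          rfl
        simp only [Equiv.ofBijective_apply, this]
        rfl
      rw [heq]; exact hχ
    obtain ⟨g, hg⟩ := (Char.mem_conjOrbit S).1 (Char.restrict_constituent_conj S χ.2 (Char.isIrrCharacter_linear y.1)
      (Char.isIrrCharacter_linear (σ y).1) hχ hχσ)
    have hy : σ y = g⁻¹ • y := Subtype.ext (MonoidHom.ext fun s => Units.ext (by
      refine (congrFun hg s).trans ?_
      exact congrArg (fun z : S => ((y.1 z : ℂˣ) : ℂ)) (Subtype.ext (by simp))))
    rintro _ ⟨n, rfl⟩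
    show σ (n • y) ∈ _
    rw [hσ, hy, ← mul_smul]
    exact MulAction.mem_orbit _ _
  have hpor : ∀ y : {μ : S →* ℂˣ // μ ≠ 1}, ¬ p ∣ Nat.card (MulAction.orbit N y) := by
    intro y hd
    obtain ⟨χ, hχ1, hχ⟩ := habove y.1 y.2
    refine D.copr χ hχ1 (hd.trans ?_)
    rw [Nat.card_coe_set_eq, ← MulAction.index_stabilizer, stabilizer_dualAct]
    exact ThreePrimes.orbit_dvd S χ (Char.isIrrCharacter_linear y.1) hχ
  have hkey := card_fixed_points φ R σ hσ (fun r hr x => by
      rw [← MulAction.mem_stabilizer_iff, mem_stab_iff]; exact hR r hr x.1)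
    (fun n x hx h => ?_) (fun y => ?_)
  · let F : Subgroup (S →* ℂˣ) :=
      { carrier := {μ | μ.comp e = μ}
        one_mem' := MonoidHom.one_comp e
        mul_mem' := fun {μ ν} h1 h2 => by
          show (μ * ν).comp e = μ * ν
          rw [MonoidHom.mul_comp, h1, h2]
        inv_mem' := fun {μ} h1 => by
          show μ⁻¹.comp e = μ⁻¹
          rw [MonoidHom.inv_comp, h1] }
    obtain ⟨b, hb, hb'⟩ := (Nat.dvd_prime_pow hr).1 (hcard ▸ F.card_subgroup_dvd_card)
    refine ⟨b, ?_⟩
    have hsub : ∀ {α : Type u} [Finite α] (x0 : α),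
        Nat.card {x : α // x ≠ x0} = Nat.card α - 1 := by
      intro α _ x0
      haveI := Fintype.ofFinite α
      rw [Nat.card_eq_fintype_card, Nat.card_eq_fintype_card, Fintype.card_subtype_compl,
        Fintype.card_subtype_eq]
    have e1 : Nat.card {μ : S →* ℂˣ // μ ≠ 1} = r ^ a - 1 := by rw [← hcard]; exact hsub 1
    have e2 : Nat.card {x : {μ : S →* ℂˣ // μ ≠ 1} // σ x = x} = r ^ b - 1 := by
      rw [← hb', ← hsub (1 : F)]
      exact Nat.card_congr
        { toFun := fun x => ⟨⟨x.1.1, congrArg Subtype.val x.2⟩,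
            fun h => x.1.2 (congrArg Subtype.val h)⟩
          invFun := fun μ => ⟨⟨μ.1.1, fun h => μ.2 (Subtype.ext h)⟩, Subtype.ext μ.1.2⟩
          left_inv := fun x => rfl
          right_inv := fun μ => rfl }
    rw [← e1, ← e2]
    exact hkey
  · have h1 : n⁻¹ * φ n ∈ MulAction.stabilizer N x := by
      rw [MulAction.mem_stabilizer_iff, mul_smul, h, inv_smul_smul]
    rw [mem_stab_iff] at h1
    exact fixMod_of_fixMod D.hp hj hRφ ⟨R.index, hpR, Subgroup.pow_index_mem R _⟩
      (fixMod_mono hWR (D.unmoved_of_inertia hW hSW x.2 h1))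
  · obtain ⟨x, hx⟩ := exists_fixed (j := j) D.hp (hpor y)
      (fun z => (⟨σ z.1, horbit y z.1 z.2⟩ : MulAction.orbit N y)) (by
        have hiter : ∀ (i : ℕ) (z : MulAction.orbit N y),
            (((fun z => (⟨σ z.1, horbit y z.1 z.2⟩ : MulAction.orbit N y))^[i] z : MulAction.orbit N y) : {μ : S →* ℂˣ // μ ≠ 1})
              = σ^[i] z.1 := by
          intro i
          induction i with
          | zero => intro z; rfl
          | succ i ih =>
            intro z
            rw [Function.iterate_succ_apply, ih, Function.iterate_succ_apply]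
        exact funext fun z => Subtype.ext (by rw [hiter, hper]; rfl))
    obtain ⟨n, hn⟩ := x.2
    exact ⟨n⁻¹, x.1, congrArg Subtype.val hx, by rw [← hn]; exact inv_smul_smul n y⟩

end Cfsg.Agent.TwoComp
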