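import Cfsg.Agent.Lib.TwoComp.Scalar
import Cfsg.Agent.Lib.Char.ChiefRestrict
import Cfsg.Agent.Lib.Char.ThompsonComplement
import Cfsg.Agent.Lib.PLocal.FixedPointFree

/-!
# A coprime automorphism fixing all non-linear characters
-/

set_option autoImplicit false
set_option linter.style.haveILetI false
set_option linter.unusedSectionVars false

namespace Cfsg.Agent.TwoComp

open Cfsg.Agent
open scoped commutatorElement ComplexConjugate

universe u

variable {N : Type u} [Group N] [Finite N] {φ : MulAut N} {p q : ℕ}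

/-- The hypotheses on the kernel. -/
structure Hyp (N : Type u) [Group N] [Finite N] (φ : MulAut N) (p q : ℕ) : Prop where
  hp : p.Prime
  hq : q.Prime
  ne : p ≠ q
  pow : ∃ j, φ ^ p ^ j = 1
  inv : ∀ χ : Cfsg.IrrCharacter N, Cfsg.charDegree (χ : N → ℂ) ≠ 1 →
    ∀ x, (χ : N → ℂ) (φ x) = (χ : N → ℂ) x
  copr : ∀ χ : Cfsg.IrrCharacter N, Cfsg.charDegree (χ : N → ℂ) ≠ 1 →
    ¬ p ∣ Cfsg.charDegree (χ : N → ℂ)
  dvd : ∀ χ : Cfsg.IrrCharacter N, Cfsg.charDegree (χ : N → ℂ) ≠ 1 →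
    q ∣ Cfsg.charDegree (χ : N → ℂ)
  anti : ∀ χ χ' : Cfsg.IrrCharacter N, Cfsg.charDegree (χ : N → ℂ) ≠ 1 →
    Cfsg.charDegree (χ : N → ℂ) ∣ Cfsg.charDegree (χ' : N → ℂ) →
    Cfsg.charDegree (χ : N → ℂ) = Cfsg.charDegree (χ' : N → ℂ)
  moved : ∃ (x : N) (i : ℕ), x ^ q ^ i = 1 ∧ x ∉ fixMod φ (commutator N)

theorem map_mem_commutator (φ : MulAut N) {w : N} (hw : w ∈ commutator N) :
    φ w ∈ commutator N := by
  have h := Subgroup.characteristic_iff_map_eq.1 (inferInstance : (commutator N).Characteristic) φ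
  exact h ▸ Subgroup.mem_map_of_mem φ.toMonoidHom hw

theorem mul_comm_mod (a b : N) : a⁻¹ * b⁻¹ * a * b ∈ commutator N := by
  have h := Subgroup.commutator_mem_commutator (H₁ := (⊤ : Subgroup N)) (H₂ := ⊤)
    (Subgroup.mem_top a⁻¹) (Subgroup.mem_top b⁻¹)
  simpa [commutatorElement_def, commutator_def] using h

theorem mem_of_pow_coprime {C : Subgroup N} {x : N} {m k : ℕ} (h : m.Coprime k)
    (hm : x ^ m ∈ C) (hk : x ^ k ∈ C) : x ∈ C := by
  have e : ((m : ℤ) * m.gcdA k + (k : ℤ) * m.gcdB k) = 1 := by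
    rw [← Nat.gcd_eq_gcd_ab, h.gcd_eq_one]; rfl
  rw [← zpow_one x, ← e, zpow_add, zpow_mul, zpow_mul, zpow_natCast, zpow_natCast]
  exact C.mul_mem (C.zpow_mem hm _) (C.zpow_mem hk _)

theorem commutator_le_fixMod : commutator N ≤ fixMod φ (commutator N) := fun w hw =>
  mem_fixMod.2 ((commutator N).mul_mem ((commutator N).inv_mem hw) (map_mem_commutator φ hw))

theorem fixMod_mono {R S : Subgroup N} [R.Normal] [S.Normal] (h : R ≤ S) :
    fixMod φ R ≤ fixMod φ S := fun _ hn => mem_fixMod.2 (h (mem_fixMod.1 hn))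

namespace Hyp

variable (D : Hyp N φ p q)
include D

/-- Non-linear characters vanish on elements moved modulo the derived subgroup. -/
theorem vanish {χ : Cfsg.IrrCharacter N} (hχ : Cfsg.charDegree (χ : N → ℂ) ≠ 1) {x : N}
    (hx : x ∉ fixMod φ (commutator N)) : (χ : N → ℂ) x = 0 := by
  haveI : Finite (Abelianization N) := inferInstanceAs (Finite (N ⧸ commutator N))
  haveI : IsMulCommutative (Abelianization N) := ⟨⟨fun a b => mul_comm a b⟩⟩
  obtain ⟨l, hl⟩ := ThreePrimes.exists_linear_ne_one (A := Abelianization N)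
    (a := Abelianization.of (x⁻¹ * φ x)) fun e => hx (mem_fixMod.2
      ((QuotientGroup.eq_one_iff (N := commutator N) _).1 e))
  let f : N →* ℂˣ := l.comp Abelianization.of
  let χ' : Cfsg.IrrCharacter N :=
    ⟨fun n => (f n : ℂ) * (χ : N → ℂ) n, Char.ChiefRestrict.isIrr_mul_linear χ.2 f⟩
  have hdeg : Cfsg.charDegree (χ' : N → ℂ) = Cfsg.charDegree (χ : N → ℂ) := by
    simp [Cfsg.charDegree, χ']
  have h1 : (f (φ x) : ℂ) * (χ : N → ℂ) (φ x) = (f x : ℂ) * (χ : N → ℂ) x :=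
    D.inv χ' (hdeg ▸ hχ) x
  rw [D.inv χ hχ x, ← sub_eq_zero, ← sub_mul, mul_eq_zero] at h1
  refine h1.resolve_left fun e => hl ?_
  show f (x⁻¹ * φ x) = 1
  rw [map_mul, map_inv, Units.ext (sub_eq_zero.1 e), inv_mul_cancel]

theorem card_centralizer {x : N} (hx : x ∉ fixMod φ (commutator N)) :
    Nat.card (Subgroup.centralizer ({x} : Set N)) = (commutator N).index := by
  classical
  haveI := Fintype.ofFinite N
  have h := Char.column_orth_of_isConj (IsConj.refl x)
  have e : ∀ χ : Cfsg.IrrCharacter N, (χ : N → ℂ) x * conj ((χ : N → ℂ) x) =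
      if (χ : N → ℂ) 1 = 1 then 1 else 0 := by
    intro χ
    split_ifs with h1
    · obtain ⟨f, hf⟩ := Char.exists_hom_of_degree_one (Char.IsIrrCharacter.isCharacter χ.2) h1
      rw [hf, Complex.mul_conj', Char.norm_eq_one_of_pow (Nat.card_pos (α := N)).ne' (by
        rw [← Units.val_pow_eq_pow_val, ← map_pow, pow_card_eq_one', map_one, Units.val_one])]
      simp
    · rw [D.vanish (fun h2 => h1 (by rw [CharX.irr_deg, h2, Nat.cast_one])) hx, zero_mul]
  rw [Finset.sum_congr rfl fun χ _ => e χ, Finset.sum_boole, ← Fintype.card_subtype,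
    ← Nat.card_eq_fintype_card, Char.card_linear] at h
  exact_mod_cast h.symm

theorem conj_surj {x : N} (hx : x ∉ fixMod φ (commutator N)) {w : N} (hw : w ∈ commutator N) :
    ∃ g : N, g * x * g⁻¹ = x * w := by
  classical
  set C := Subgroup.centralizer ({x} : Set N)
  let f : N ⧸ C → commutator N := fun c => ⟨x⁻¹ * (c.out * x * (c.out)⁻¹), by
    simpa [mul_assoc] using mul_comm_mod x (c.out)⁻¹⟩
  have hinj : Function.Injective f := by
    intro a b h
    have h1 : a.out * x * (a.out)⁻¹ = b.out * x * (b.out)⁻¹ :=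
      mul_left_cancel (congrArg Subtype.val h)
    rw [← QuotientGroup.out_eq' a, ← QuotientGroup.out_eq' b, QuotientGroup.eq,
      Subgroup.mem_centralizer_singleton_iff]
    calc (a.out)⁻¹ * b.out * x
        = (a.out)⁻¹ * (b.out * x * (b.out)⁻¹) * b.out := by group
      _ = (a.out)⁻¹ * (a.out * x * (a.out)⁻¹) * b.out := by rw [h1]
      _ = x * ((a.out)⁻¹ * b.out) := by group
  have hcard : Nat.card (N ⧸ C) = Nat.card (commutator N) := by
    refine Nat.eq_of_mul_eq_mul_right (Nat.card_pos (α := C)) ?_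
    rw [← Subgroup.index_eq_card, C.index_mul_card, D.card_centralizer hx,
      Subgroup.card_mul_index]
  obtain ⟨c, hc⟩ := (hinj.bijective_of_nat_card_le hcard.ge).2 ⟨w, hw⟩
  refine ⟨c.out, ?_⟩
  have h2 : x⁻¹ * (c.out * x * (c.out)⁻¹) = w := congrArg Subtype.val hc
  rw [← h2, mul_inv_cancel_left]

variable (hW : (Nat.card (commutator N)).Coprime q)
include hW

theorem fpf_qelement {x : N} {i : ℕ} (hxi : x ^ q ^ i = 1)
    (hx : x ∉ fixMod φ (commutator N)) {w : N} (hw : w ∈ commutator N) (hxw : x * w = w * x) :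
    w = 1 := by
  obtain ⟨g, hg⟩ := D.conj_surj hx hw
  have h1 : (x * w) ^ q ^ i = 1 := by rw [← hg, conj_pow, hxi, mul_one, mul_inv_cancel]
  rw [(show Commute x w from hxw).mul_pow, hxi, one_mul] at h1
  have h2 : w ^ Nat.card (commutator N) = 1 :=
    congrArg Subtype.val (pow_card_eq_one' (x := (⟨w, hw⟩ : commutator N)))
  rw [← orderOf_eq_one_iff]
  exact Nat.eq_one_of_dvd_coprimes ((hW.pow_right i)) (orderOf_dvd_of_pow_eq_one h2)
    (orderOf_dvd_of_pow_eq_one h1)

theorem exists_complement :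
    ∃ H : Subgroup N, commutator N ⊓ H = ⊥ ∧ commutator N ⊔ H = ⊤ ∧
      (∀ a ∈ H, ∀ b ∈ H, a * b = b * a) := by
  obtain ⟨x, i, hxi, hx⟩ := D.moved
  set H := Subgroup.centralizer ({x} : Set N) with hH
  have hbot : commutator N ⊓ H = ⊥ := by
    rw [eq_bot_iff]
    intro w hw
    rw [Subgroup.mem_inf, hH, Subgroup.mem_centralizer_singleton_iff] at hw
    exact Subgroup.mem_bot.2 (D.fpf_qelement hW hxi hx hw.1 hw.2.symm)
  refine ⟨H, hbot, ?_, fun a ha b hb => ?_⟩
  · refine Subgroup.eq_top_of_card_eq _ (le_antisymm (Subgroup.card_le_card_group _) ?_)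
    rw [← (commutator N).card_mul_index, ← D.card_centralizer hx, ← hH]
    refine le_of_eq ?_
    rw [← Nat.card_prod]
    refine (Nat.card_eq_of_bijective
      (fun c : (commutator N) × H => (⟨(c.1 : N) * c.2,
        Subgroup.mul_mem_sup c.1.2 c.2.2⟩ : ↥(commutator N ⊔ H))) ⟨?_, ?_⟩)
    · intro a b h
      have h1 : (a.1 : N) * a.2 = b.1 * b.2 := congrArg Subtype.val h
      exact Subgroup.mul_injective_of_disjoint (disjoint_iff.2 hbot) h1
    · rintro ⟨y, hy⟩
      obtain ⟨a, ha, b, hb, rfl⟩ := Subgroup.mem_sup_of_normal_left.1 hy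
      exact ⟨(⟨a, ha⟩, ⟨b, hb⟩), rfl⟩
  · refine commutatorElement_eq_one_iff_mul_comm.1 ((Subgroup.eq_bot_iff_forall _).1 hbot _ ?_)
    exact ⟨Subgroup.commutator_mem_commutator (Subgroup.mem_top a) (Subgroup.mem_top b),
      H.mul_mem (H.mul_mem (H.mul_mem ha hb) (H.inv_mem ha)) (H.inv_mem hb)⟩

/-- Every element moved modulo the derived subgroup acts fixed-point-freely on it. -/
theorem fpf {n : N} (hn : n ∉ fixMod φ (commutator N)) {w : N} (hw : w ∈ commutator N)
    (hnw : n * w = w * n) : w = 1 := by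
  obtain ⟨H, hbot, hsup, hab⟩ := D.exists_complement hW
  obtain ⟨v, hv, h, hh, hvh⟩ := Subgroup.mem_sup_of_normal_left.1
    (hsup ▸ Subgroup.mem_top n : n ∈ commutator N ⊔ H)
  have hhm : h ∉ fixMod φ (commutator N) := fun hm =>
    hn (hvh ▸ mul_mem (commutator_le_fixMod hv) hm)
  obtain ⟨g, hg⟩ := D.conj_surj hhm
    (show h⁻¹ * v * h ∈ commutator N by
      simpa using (inferInstance : (commutator N).Normal).conj_mem v hv h⁻¹)
  have hgn : g * h * g⁻¹ = n := by rw [hg, ← hvh]; group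
  have hCH : H = Subgroup.centralizer ({h} : Set N) := by
    refine Subgroup.eq_of_le_of_card_ge (fun a ha =>
      Subgroup.mem_centralizer_singleton_iff.2 (hab a ha h hh)) ?_
    rw [D.card_centralizer hhm, Subgroup.index_eq_card]
    refine Nat.card_le_card_of_surjective (fun a : H => ((a : N) : N ⧸ commutator N)) fun c => ?_
    obtain ⟨y, rfl⟩ := QuotientGroup.mk_surjective c
    obtain ⟨v', hv', h', hh', rfl⟩ := Subgroup.mem_sup_of_normal_left.1
      (hsup ▸ Subgroup.mem_top y : y ∈ commutator N ⊔ H)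
    exact ⟨⟨h', hh'⟩, by
      show (h' : N ⧸ commutator N) = _
      rw [QuotientGroup.mk_mul, (QuotientGroup.eq_one_iff v').2 hv', one_mul]⟩
  have h3 : g⁻¹ * w * g ∈ H := by
    rw [hCH, Subgroup.mem_centralizer_singleton_iff]
    calc g⁻¹ * w * g * h = g⁻¹ * (w * (g * h * g⁻¹)) * g := by group
      _ = g⁻¹ * ((g * h * g⁻¹) * w) * g := by rw [hgn, hnw]
      _ = h * (g⁻¹ * w * g) := by group
  have h4 := (Subgroup.eq_bot_iff_forall _).1 hbot _ (Subgroup.mem_inf.2
    ⟨by simpa using (inferInstance : (commutator N).Normal).conj_mem w hw g⁻¹, h3⟩)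
  calc w = g * (g⁻¹ * w * g) * g⁻¹ := by group
    _ = 1 := by rw [h4, mul_one, mul_inv_cancel]

theorem eq_bracket {S : Subgroup N} [S.Normal] (hS : S ≤ commutator N) {n : N}
    (hn : n ∉ fixMod φ (commutator N)) {s : N} (hs : s ∈ S) :
    ∃ t ∈ S, n * t * n⁻¹ * t⁻¹ = s := by
  let f : S → S := fun t => ⟨n * t * n⁻¹ * (t : N)⁻¹,
    S.mul_mem ((inferInstance : S.Normal).conj_mem t t.2 n) (S.inv_mem t.2)⟩
  have hinj : Function.Injective f := by
    intro a b h
    have h1 : n * (a : N) * n⁻¹ * (a : N)⁻¹ = n * (b : N) * n⁻¹ * (b : N)⁻¹ :=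
      congrArg Subtype.val h
    refine Subtype.ext (inv_mul_eq_one.1
      (D.fpf hW hn (hS (S.mul_mem (S.inv_mem b.2) a.2)) ?_)).symm
    calc n * ((b : N)⁻¹ * a) = (n * (b : N) * n⁻¹)⁻¹ * (n * (a : N) * n⁻¹ * (a : N)⁻¹) * a * n := by
          group
      _ = (n * (b : N) * n⁻¹)⁻¹ * (n * (b : N) * n⁻¹ * (b : N)⁻¹) * a * n := by rw [h1]
      _ = (b : N)⁻¹ * a * n := by group
  obtain ⟨t, ht⟩ := (Finite.injective_iff_surjective.1 hinj) ⟨s, hs⟩
  exact ⟨t, t.2, congrArg Subtype.val ht⟩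

/-- A moved element fixes no non-trivial linear character below the derived subgroup. -/
theorem unmoved_of_inertia {S : Subgroup N} [S.Normal] (hS : S ≤ commutator N) {μ : S →* ℂˣ}
    (hμ : μ ≠ 1) {n : N} (hn : n ∈ Char.inertia S fun s : S => (μ s : ℂ)) :
    n ∈ fixMod φ (commutator N) := by
  by_contra hm
  refine hμ (MonoidHom.ext fun s => ?_)
  obtain ⟨t, ht, e⟩ := D.eq_bracket hW hS hm s.2
  have h1 := (ThreePrimes.mem_inertia_linear S).1 hn ⟨t, ht⟩
    ⟨n * t * n⁻¹, (inferInstance : S.Normal).conj_mem t ht n⟩ rfl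
  rw [show s = ⟨n * t * n⁻¹, (inferInstance : S.Normal).conj_mem t ht n⟩ * ⟨t, ht⟩⁻¹ from
    Subtype.ext e.symm, map_mul, map_inv, h1, mul_inv_cancel, MonoidHom.one_apply]

theorem exists_moved_prime : ∃ x : N, x ^ q = 1 ∧ x ∉ fixMod φ (commutator N) := by
  classical
  have hex : ∃ i, ∃ x : N, x ^ q ^ i = 1 ∧ x ∉ fixMod φ (commutator N) := by
    obtain ⟨x, i, hx⟩ := D.moved
    exact ⟨i, x, hx⟩
  obtain ⟨x, hxi, hx⟩ := Nat.find_spec hex
  set i := Nat.find hex with hi
  rcases i with _ | _ | i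
  · rw [pow_zero, pow_one] at hxi
    exact absurd (hxi ▸ one_mem _) hx
  · exact ⟨x, by simpa using hxi, hx⟩
  exfalso
  have hxq : x ^ q ∈ fixMod φ (commutator N) := by
    by_contra hm
    exact Nat.find_min hex (m := i + 1) (by omega)
      ⟨x ^ q, by rw [← pow_mul, ← pow_succ']; exact hxi, hm⟩
  set c := x⁻¹ * φ x with hc
  let π := QuotientGroup.mk' (commutator N)
  have hcq : c ^ q ∈ commutator N := by
    rw [← QuotientGroup.eq_one_iff]
    show π (c ^ q) = 1
    have hcomm : Commute (π x)⁻¹ (π (φ x)) :=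
      (mul_comm (Abelianization.of x)⁻¹ (Abelianization.of (φ x)) :)
    rw [map_pow, hc, map_mul, map_inv, hcomm.mul_pow, inv_pow, ← map_pow, ← map_pow, ← map_pow,
      ← map_inv, ← map_mul]
    exact (QuotientGroup.eq_one_iff _).2 (mem_fixMod.1 hxq)
  set c' := c ^ Nat.card (commutator N) with hc'
  have hc'q : c' ^ q ^ 1 = 1 := by
    rw [pow_one, hc', ← pow_mul, mul_comm, pow_mul]
    exact congrArg Subtype.val (pow_card_eq_one' (x := (⟨_, hcq⟩ : commutator N)))
  have hc'f : c' ∈ fixMod φ (commutator N) := by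
    by_contra hm
    exact Nat.find_min hex (m := 1) (by omega) ⟨c', hc'q, hm⟩
  obtain ⟨j, hj⟩ := D.pow
  exact hx (fixMod_of_fixMod D.hp hj (fun r hr => map_mem_commutator φ hr)
    ⟨q, fun h => D.ne ((Nat.prime_dvd_prime_iff_eq D.hp D.hq).1 h), hcq⟩
    (mem_of_pow_coprime hW hc'f (commutator_le_fixMod hcq)))

theorem nilpotent : Group.IsNilpotent (commutator N) := by
  obtain ⟨x, hxq, hx⟩ := D.exists_moved_prime hW
  exact FixedPointFreeThompson.isNilpotent_of_conj _ D.hq x hxq fun w hw h =>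
    D.fpf hW hx hw h

end Hyp

end Cfsg.Agent.TwoComp
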