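import Cfsg.Agent.Lib.TwoComp.Nonab

/-!
# The kernel has a single non-linear degree
-/

set_option autoImplicit false
set_option linter.style.haveILetI false
set_option linter.unusedSectionVars false

namespace Cfsg.Agent.TwoComp

open Cfsg.Agent
open scoped commutatorElement

universe u

variable {N : Type u} [Group N] [Finite N] {φ : MulAut N} {p q : ℕ}

namespace Hyp

/-- The second derived subgroup is trivial. -/
theorem bracket_eq_bot (D : Hyp N φ p q) (hW : (Nat.card (commutator N)).Coprime q) :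
    ⁅commutator N, commutator N⁆ = ⊥ := by
  classical
  haveI := Fintype.ofFinite N
  by_contra hne
  set W := commutator N with hWdef
  obtain ⟨M, hM⟩ := (Set.toFinite {M : Subgroup N | M.Normal ∧ (∀ m ∈ M, φ m ∈ M) ∧
    ¬ ⁅W, W⁆ ≤ M}).exists_maximal
    ⟨⊥, Subgroup.normal_bot, fun m hm => by rw [Subgroup.mem_bot.1 hm, map_one]; exact one_mem _,
      fun h => hne (le_bot_iff.1 h)⟩
  obtain ⟨hMn, hMφ, hMnot⟩ := hM.prop
  haveI := hMn
  have hmapM : M.map φ.toMonoidHom = M := by
    refine Subgroup.eq_of_le_of_card_ge (by rintro _ ⟨m, hm, rfl⟩; exact hMφ m hm) ?_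
    rw [Subgroup.card_map_of_injective φ.injective]
  let ψ : MulAut (N ⧸ M) := QuotientGroup.congr M M φ hmapM
  set π := QuotientGroup.mk' M with hπdef
  have hπ : Function.Surjective π := QuotientGroup.mk'_surjective M
  have hψ : ∀ n : N, ψ (π n) = π (φ n) := fun n => rfl
  have hcomm : commutator (N ⧸ M) = W.map π := by
    rw [hWdef, commutator_def, commutator_def, Subgroup.map_commutator,
      Subgroup.map_top_of_surjective π hπ]
  -- an element outside stays moved in the quotient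
  obtain ⟨x, i, hxi, hx⟩ := D.moved
  obtain ⟨j, hj⟩ := D.pow
  have hxM : π x ∉ fixMod ψ (commutator (N ⧸ M)) := by
    intro h
    rw [mem_fixMod, hψ, hcomm, ← map_inv, ← map_mul] at h
    obtain ⟨w, hw, hwc⟩ := h
    set m := w⁻¹ * (x⁻¹ * φ x) with hm
    have hmM : m ∈ M := QuotientGroup.eq.1 hwc
    have hcm : x⁻¹ * φ x ∉ fixMod φ W := fun hcf =>
      hx (fixMod_of_fixMod D.hp hj (fun w => map_mem_commutator φ)
        ⟨q ^ i, fun hd => D.ne ((Nat.prime_dvd_prime_iff_eq D.hp D.hq).1 (D.hp.dvd_of_dvd_pow hd)),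
          pow_bracket_mem hxi φ⟩ hcf)
    have hmm : m ∉ fixMod φ W := fun hmf => hcm (by
      rw [show x⁻¹ * φ x = w * m by rw [hm, mul_inv_cancel_left]]
      exact mul_mem (commutator_le_fixMod hw) hmf)
    refine hMnot ((Subgroup.commutator_le_left W W).trans fun s hs => ?_)
    obtain ⟨t, -, hts⟩ := D.eq_bracket hW (le_refl W) hmm hs
    rw [← hts, mul_assoc m, mul_assoc m]
    refine M.mul_mem hmM ?_
    exact hMn.conj_mem _ (M.inv_mem hmM) t
  have hlift : ∀ χ : Cfsg.IrrCharacter (N ⧸ M),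
      Cfsg.charDegree ((CharX.infl M χ : Cfsg.IrrCharacter N) : N → ℂ) =
        Cfsg.charDegree (χ : N ⧸ M → ℂ) := fun χ =>
    Nat.cast_injective (R := ℂ) (by rw [← CharX.irr_deg, ← CharX.irr_deg]; rfl)
  have hit : ∀ (k : ℕ) (n : N), (ψ ^ k) (π n) = π ((φ ^ k) n) := by
    intro k
    induction k with
    | zero => intro n; rfl
    | succ k ih => intro n; rw [pow_succ', MulAut.mul_apply, ih, hψ, pow_succ', MulAut.mul_apply]
  have D' : Hyp (N ⧸ M) ψ p q :=
    { hp := D.hp
      hq := D.hq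
      ne := D.ne
      pow := ⟨j, MulEquiv.ext fun y => by
        obtain ⟨n, rfl⟩ := hπ y
        rw [hit, hj]; rfl⟩
      inv := fun χ hχ y => by
        obtain ⟨n, rfl⟩ := hπ y
        rw [hψ]
        exact D.inv (CharX.infl M χ) (by rw [hlift]; exact hχ) n
      copr := fun χ hχ => hlift χ ▸ D.copr (CharX.infl M χ) (by rw [hlift]; exact hχ)
      dvd := fun χ hχ => hlift χ ▸ D.dvd (CharX.infl M χ) (by rw [hlift]; exact hχ)
      anti := fun χ χ' hχ hd => by
        rw [← hlift χ, ← hlift χ'] at hd ⊢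
        exact D.anti _ _ (by rw [hlift]; exact hχ) hd
      moved := ⟨π x, i, by rw [← map_pow, hxi, map_one], hxM⟩ }
  have hWcard : (Nat.card (commutator (N ⧸ M))).Coprime q := by
    rw [hcomm]
    exact hW.coprime_dvd_left (Subgroup.card_map_dvd W π)
  have hbr : ⁅commutator (N ⧸ M), commutator (N ⧸ M)⁆ = (⁅W, W⁆).map π := by
    rw [hcomm, Subgroup.map_commutator]
  refine D'.absurd_minimal hWcard (fun Y hYn hYψ hY => ?_) ?_
  · rw [hbr, Subgroup.map_le_iff_le_comap]
    by_contra hnot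
    have hMY : M ≤ Y.comap π := fun m hm => by
      rw [Subgroup.mem_comap, show π m = 1 from (QuotientGroup.eq_one_iff m).2 hm]
      exact one_mem _
    have hle := hM.2 (y := Y.comap π) ⟨hYn.comap π, fun m hm => by
      rw [Subgroup.mem_comap] at hm ⊢
      rw [← hψ]
      exact hYψ _ hm, hnot⟩ hMY
    refine hY ?_
    rw [← Subgroup.map_comap_eq_self_of_surjective hπ Y, le_antisymm hle hMY,
      QuotientGroup.map_mk'_self]
  · rw [hbr, Ne, Subgroup.map_eq_bot_iff, QuotientGroup.ker_mk']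
    exact hMnot

/-- All non-linear degrees of the kernel are equal. -/
theorem single (D : Hyp N φ p q) (χ χ' : Cfsg.IrrCharacter N)
    (h : Cfsg.charDegree (χ : N → ℂ) ≠ 1) (h' : Cfsg.charDegree (χ' : N → ℂ) ≠ 1) :
    Cfsg.charDegree (χ : N → ℂ) = Cfsg.charDegree (χ' : N → ℂ) := by
  classical
  haveI := Fintype.ofFinite N
  have hdeg : ∀ ψ : N → ℂ, Cfsg.IsIrrCharacter N ψ → ∀ d : ℕ, ψ 1 = d → d = 1 ∨ q ∣ d := by
    intro ψ hψ d hd
    have hdd : Cfsg.charDegree ψ = d := by
      rw [Cfsg.charDegree, hd, Complex.natCast_re, Nat.floor_natCast]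
    by_cases h1 : d = 1
    · exact Or.inl h1
    · exact Or.inr (hdd ▸ D.dvd ⟨ψ, hψ⟩ (hdd.symm ▸ h1))
  obtain ⟨T, hTn, hTc, k, hk⟩ := Char.TC.exists_complement D.hq hdeg
  haveI := hTn
  by_cases hle : commutator N ≤ T
  · have hW : (Nat.card (commutator N)).Coprime q :=
      hTc.coprime_dvd_left (Subgroup.card_dvd_of_le hle)
    by_cases hWne : commutator N = ⊥
    · refine absurd ?_ h
      have hcomm : ∀ a b : N, a * b = b * a := fun a b =>
        commutatorElement_eq_one_iff_mul_comm.1 ((Subgroup.eq_bot_iff_forall _).1 hWne _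
          (Subgroup.commutator_mem_commutator (Subgroup.mem_top a) (Subgroup.mem_top b)))
      exact Nat.cast_injective (R := ℂ) (by
        rw [← CharX.irr_deg, Char.degree_one_of_comm hcomm χ.2, Nat.cast_one])
    obtain ⟨-, R, SR⟩ := D.exists_stab hW hWne
    have h2 := D.bracket_eq_bot hW
    obtain ⟨H, hbot, hsup, hab⟩ := D.exists_complement hW
    haveI := SR.normal
    have hWc : ∀ a ∈ commutator N, ∀ b ∈ commutator N, a * b = b * a := fun a ha b hb =>
      commutatorElement_eq_one_iff_mul_comm.1 ((Subgroup.eq_bot_iff_forall _).1 h2 _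
        (Subgroup.commutator_mem_commutator ha hb))
    have hRc : ∀ r ∈ R, ∀ w ∈ commutator N, r * w = w * r := fun r hr w hw => by
      have h3 := SR.cent r hr w hw
      rw [h2, Subgroup.mem_bot, mul_inv_eq_one, mul_inv_eq_iff_eq_mul] at h3
      exact h3
    have hA : IsMulCommutative R := ⟨⟨fun a b => Subtype.ext (by
      obtain ⟨w, hw, k, hk, hwk⟩ := Subgroup.mem_sup_of_normal_left.1
        (hsup ▸ Subgroup.mem_top (a : N) : (a : N) ∈ commutator N ⊔ H)
      obtain ⟨v, hv, l, hl, hvl⟩ := Subgroup.mem_sup_of_normal_left.1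
        (hsup ▸ Subgroup.mem_top (b : N) : (b : N) ∈ commutator N ⊔ H)
      have hkR : k ∈ R := by
        have := mul_mem (inv_mem (SR.le hw)) (hwk ▸ a.2)
        rwa [inv_mul_cancel_left] at this
      have hlR : l ∈ R := by
        have := mul_mem (inv_mem (SR.le hv)) (hvl ▸ b.2)
        rwa [inv_mul_cancel_left] at this
      show (a : N) * b = b * a
      rw [← hwk, ← hvl]
      have c1 : Commute w v := hWc w hw v hv
      have c2 : Commute k v := hRc k hkR v hv
      have c3 : Commute l w := hRc l hlR w hw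
      have c4 : Commute k l := hab k hk l hl
      exact ((c1.mul_right c3.symm).mul_left (c2.mul_right c4)).eq)⟩⟩
    obtain ⟨χ0, h0, h01⟩ := SR.degree
    have key : ∀ ξ : Cfsg.IrrCharacter N, Cfsg.charDegree (ξ : N → ℂ) ≠ 1 →
        Cfsg.charDegree (ξ : N → ℂ) = R.index := fun ξ hξ => by
      rw [← h0]
      exact D.anti ξ χ0 hξ (h0 ▸ Char.Ito.degree_dvd_index R hA ξ)
    rw [key χ h, key χ' h']
  · obtain ⟨a, -, ha⟩ := (Nat.dvd_prime_pow D.hq).1 (D.degree_pow_or_le T hTc hk hle χ)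
    obtain ⟨b, -, hb⟩ := (Nat.dvd_prime_pow D.hq).1 (D.degree_pow_or_le T hTc hk hle χ')
    rcases Nat.le_total a b with hab | hab
    · exact D.anti χ χ' h (ha ▸ hb ▸ pow_dvd_pow q hab)
    · exact (D.anti χ' χ h' (ha ▸ hb ▸ pow_dvd_pow q hab)).symm

end Hyp

end Cfsg.Agent.TwoComp
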