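import Cfsg.Agent.Lib.TwoComp.Kernel
import Cfsg.Agent.Lib.Char.ThreeDegrees.Main
import Cfsg.Prelude.Def_DegreeGraph
import Mathlib.Combinatorics.SimpleGraph.Connectivity.Connected

/-!
# No divisibility among the degrees and a disconnected degree graph
-/

set_option autoImplicit false
set_option linter.style.haveILetI false
set_option linter.unusedSectionVars false

namespace Cfsg.Agent.TwoComp

open Cfsg.Agent
open scoped commutatorElement

universe u

variable {G : Type u} [Group G] [Finite G]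

/-- Every vertex is joined to one of them: the graph has at most one component. -/
theorem not_two_of_base
    (htwo : Nat.card ((Cfsg.degreeGraph G).induce (Cfsg.degreePrimes G)).ConnectedComponent = 2)
    (h : ∃ v : Cfsg.degreePrimes G, ∀ w : Cfsg.degreePrimes G,
      ((Cfsg.degreeGraph G).induce (Cfsg.degreePrimes G)).Reachable v w) : False := by
  obtain ⟨v, hv⟩ := h
  have : Subsingleton ((Cfsg.degreeGraph G).induce (Cfsg.degreePrimes G)).ConnectedComponent := by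
    refine ⟨fun a b => ?_⟩
    induction a using SimpleGraph.ConnectedComponent.ind with
    | h x =>
      induction b using SimpleGraph.ConnectedComponent.ind with
      | h y => exact SimpleGraph.ConnectedComponent.sound ((hv x).symm.trans (hv y))
  have h1 := Finite.card_le_one_iff_subsingleton.2 this
  omega

theorem reach {d v w : ℕ} (hd : d ∈ Cfsg.charDegrees G) (hv : v ∈ Cfsg.degreePrimes G)
    (hw : w ∈ Cfsg.degreePrimes G) (hvd : v ∣ d) (hwd : w ∣ d) :
    ((Cfsg.degreeGraph G).induce (Cfsg.degreePrimes G)).Reachable ⟨v, hv⟩ ⟨w, hw⟩ := by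
  by_cases h : v = w
  · subst h; exact SimpleGraph.Reachable.refl _
  · exact SimpleGraph.Adj.reachable
      ⟨h, hv.1, hw.1, d, hd, ((Nat.coprime_primes hv.1 hw.1).2 h).mul_dvd_of_dvd_of_dvd hvd hwd⟩

open Cfsg.Agent.Blocks in
theorem three_degrees [Group.IsSolvable G]
    (hnd : ∀ a ∈ Cfsg.charDegrees G, ∀ b ∈ Cfsg.charDegrees G, 1 < a → a < b → ¬ a ∣ b)
    (htwo : Nat.card ((Cfsg.degreeGraph G).induce (Cfsg.degreePrimes G)).ConnectedComponent = 2) :
    Nat.card ↥(Cfsg.charDegrees G) = 3 := by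
  classical
  haveI := Fintype.ofFinite G
  have hpos : ∀ χ : Cfsg.IrrCharacter G, 0 < Cfsg.charDegree (χ : G → ℂ) := CharX.irr_deg_pos
  have hanti : ∀ χ χ' : Cfsg.IrrCharacter G, Cfsg.charDegree (χ : G → ℂ) ≠ 1 →
      Cfsg.charDegree (χ : G → ℂ) ∣ Cfsg.charDegree (χ' : G → ℂ) →
      Cfsg.charDegree (χ : G → ℂ) = Cfsg.charDegree (χ' : G → ℂ) := by
    intro χ χ' h1 hd
    by_contra hne
    have := hpos χ
    exact hnd _ ⟨χ, rfl⟩ _ ⟨χ', rfl⟩ (by omega)
      (lt_of_le_of_ne (Nat.le_of_dvd (hpos χ') hd) hne) hd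
  have hna : ∃ a b : G, a * b ≠ b * a := by
    by_contra hab
    simp only [not_exists, not_not] at hab
    haveI : IsEmpty (Cfsg.degreePrimes G) := ⟨fun ⟨p, hp, d, ⟨χ, hχ⟩, hd⟩ => by
      have h1 : Cfsg.charDegree (χ : G → ℂ) = 1 := Nat.cast_injective (R := ℂ) (by
        rw [← CharX.irr_deg, Char.degree_one_of_comm hab χ.2, Nat.cast_one])
      rw [← hχ, h1] at hd
      exact hp.not_dvd_one hd⟩
    haveI : IsEmpty ((Cfsg.degreeGraph G).induce (Cfsg.degreePrimes G)).ConnectedComponent :=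
      ⟨fun c => SimpleGraph.ConnectedComponent.ind (fun v => isEmptyElim v) c⟩
    rw [Nat.card_of_isEmpty] at htwo
    omega
  rcases MinQuot.dichotomy hna with ⟨K, hK, p, hp, hpg, β, hβK, hβ1⟩ | ⟨K, N, hK, hN, q, D⟩
  · -- a `p`-quotient: every non-linear degree is divisible by `p`
    exfalso
    haveI := hK
    haveI := Fact.mk hp
    haveI : Fintype K := Fintype.ofFinite K
    obtain ⟨k, hk⟩ : ∃ k, K.index = p ^ k := by
      obtain ⟨k, hk⟩ := IsPGroup.iff_card.1 hpg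
      exact ⟨k, by rw [Subgroup.index_eq_card, hk]⟩
    have hdiv : ∀ χ : Cfsg.IrrCharacter G, Cfsg.charDegree (χ : G → ℂ) ≠ 1 →
        p ∣ Cfsg.charDegree (χ : G → ℂ) := by
      intro χ h1
      by_contra hp'
      obtain ⟨θ, hθ⟩ := Char.exists_restrict_constituent χ.2 K
      obtain ⟨e, he, hed⟩ := ThreeDeg.exists_ratio K χ θ hθ
      obtain ⟨i, -, rfl⟩ := (Nat.dvd_prime_pow hp).1 (hk ▸ hed)
      rcases Nat.eq_zero_or_pos i with rfl | hi
      · rw [pow_zero, one_mul] at he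
        have hres : Cfsg.IsIrrCharacter K (fun k : K => (χ : G → ℂ) k) := by
          rw [Char.eq_of_constituent_degree
            (Char.IsCharacter.restrict (Char.IsIrrCharacter.isCharacter χ.2) K) θ.2 hθ (by
              rw [OneMemClass.coe_one, CharX.irr_deg, CharX.irr_deg, he])]
          exact θ.2
        obtain ⟨hgal, -, -⟩ := Char.gallagher_one K (Char.IsIrrCharacter.isCharacter χ.2) hres
        have hirr := hgal β fun n => hβK n n.2
        have hdeg : Cfsg.charDegree ((β : G → ℂ) * (χ : G → ℂ)) =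
            Cfsg.charDegree (β : G → ℂ) * Cfsg.charDegree (χ : G → ℂ) := by
          refine Nat.cast_injective (R := ℂ) ?_
          rw [← CharX.deg_spec (Char.IsIrrCharacter.isCharacter hirr), Pi.mul_apply, CharX.irr_deg,
            CharX.irr_deg, Nat.cast_mul]
        have h2 := hanti χ ⟨_, hirr⟩ h1 (hdeg ▸ Dvd.intro_left _ rfl)
        rw [hdeg] at h2
        exact hβ1 (Nat.eq_of_mul_eq_mul_right (hpos χ) (by rw [one_mul]; exact h2.symm))
      · exact hp' (he ▸ (dvd_pow_self p hi.ne').mul_right _)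
    have hpP : p ∈ Cfsg.degreePrimes G := ⟨hp, _, ⟨β, rfl⟩, hdiv β hβ1⟩
    refine not_two_of_base htwo ⟨⟨p, hpP⟩, fun ⟨w, hw⟩ => ?_⟩
    obtain ⟨d, ⟨χ, rfl⟩, hwd⟩ := hw.2
    exact reach ⟨χ, rfl⟩ hpP hw
      (hdiv χ fun h1 => hw.1.not_dvd_one (h1 ▸ hwd)) hwd
  -- the Frobenius quotient
  haveI := hK
  haveI := hN
  haveI : Fintype N := Fintype.ofFinite N
  set f := N.index with hf
  have hqf : ¬ q ∣ f := ThreeDeg.not_dvd_index D
  have hf1 : f ≠ 1 := D.index_ne
  obtain ⟨χf, hχf⟩ := D.exists_mul_degree (Char.principal N) (by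
    rw [ThreeDeg.charDegree_principal]; exact D.prime.not_dvd_one)
  rw [ThreeDeg.charDegree_principal, mul_one] at hχf
  have hψq : ∀ ψ : Cfsg.IrrCharacter N, Cfsg.charDegree (ψ : N → ℂ) ≠ 1 →
      q ∣ Cfsg.charDegree (ψ : N → ℂ) := by
    intro ψ h1
    by_contra hq
    obtain ⟨χ, hχ⟩ := D.exists_mul_degree ψ hq
    have h2 := hanti χf χ (hχf ▸ hf1) (by rw [hχ, hχf]; exact Dvd.intro _ rfl)
    rw [hχ, hχf] at h2
    exact h1 (Nat.eq_of_mul_eq_mul_left (Nat.pos_of_ne_zero Subgroup.index_ne_zero_of_finite)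
      (by rw [mul_one]; exact h2.symm))
  have hsplit : ∀ χ : Cfsg.IrrCharacter G, Cfsg.charDegree (χ : G → ℂ) ≠ 1 →
      Cfsg.charDegree (χ : G → ℂ) = f ∨ q ∣ Cfsg.charDegree (χ : G → ℂ) := by
    intro χ h1
    obtain ⟨θ, hθ⟩ := Char.exists_restrict_constituent χ.2 N
    obtain ⟨e, he, hed⟩ := ThreeDeg.exists_ratio N χ θ hθ
    by_cases hθ1 : Cfsg.charDegree (θ : N → ℂ) = 1
    · left
      rw [hθ1, mul_one] at he
      have h2 := hanti χ χf h1 (by rw [he, hχf]; exact hed)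
      rw [h2, hχf]
    · right
      rw [he]
      exact (hψq θ hθ1).mul_left _
  -- the two components do not meet
  have hsep : ∀ χ : Cfsg.IrrCharacter G, q ∣ Cfsg.charDegree (χ : G → ℂ) →
      (Cfsg.charDegree (χ : G → ℂ)).Coprime f := by
    intro χ hqχ
    by_contra hnc
    obtain ⟨v, hv, hvd, hvf⟩ := Nat.Prime.not_coprime_iff_dvd.1 hnc
    have hvP : v ∈ Cfsg.degreePrimes G := ⟨hv, _, ⟨χ, rfl⟩, hvd⟩
    have hqP : q ∈ Cfsg.degreePrimes G := ⟨D.prime, _, ⟨χ, rfl⟩, hqχ⟩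
    refine not_two_of_base htwo ⟨⟨v, hvP⟩, fun ⟨w, hw⟩ => ?_⟩
    obtain ⟨d, ⟨χ', rfl⟩, hwd⟩ := hw.2
    rcases hsplit χ' (fun h1 => hw.1.not_dvd_one (h1 ▸ hwd)) with h2 | h2
    · exact reach ⟨χ', rfl⟩ hvP hw (h2 ▸ hvf) hwd
    · exact (reach ⟨χ, rfl⟩ hvP hqP hvd hqχ).trans (reach ⟨χ', rfl⟩ hqP hw h2 hwd)
  -- non-linear characters of `N` are restrictions
  have hext : ∀ ψ : Cfsg.IrrCharacter N, Cfsg.charDegree (ψ : N → ℂ) ≠ 1 →
      ∃ χ : Cfsg.IrrCharacter G, Cfsg.charDegree (χ : G → ℂ) = Cfsg.charDegree (ψ : N → ℂ) ∧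
        (fun n : N => (χ : G → ℂ) n) = (ψ : N → ℂ) := by
    intro ψ h1
    obtain ⟨χ, hχ⟩ := Char.Ito.exists_above N ψ
    obtain ⟨e, he, hed⟩ := ThreeDeg.exists_ratio N χ ψ hχ
    have hc := hsep χ (by rw [he]; exact (hψq ψ h1).mul_left _)
    have he1 : e = 1 := Nat.eq_one_of_dvd_coprimes hc (he ▸ Dvd.intro _ rfl) hed
    rw [he1, one_mul] at he
    exact ⟨χ, he, Char.eq_of_constituent_degree
      (Char.IsCharacter.restrict (Char.IsIrrCharacter.isCharacter χ.2) N) ψ.2 hχ (by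
        rw [OneMemClass.coe_one, CharX.irr_deg, CharX.irr_deg, he])⟩
  -- a `p`-element outside `N`
  obtain ⟨p, hp, hpf⟩ := Nat.exists_prime_and_dvd hf1
  haveI := Fact.mk hp
  obtain ⟨sbar, hsbar⟩ := exists_prime_orderOf_dvd_card' (G := G ⧸ N) p
    (Subgroup.index_eq_card N ▸ hpf)
  obtain ⟨s0, rfl⟩ := QuotientGroup.mk_surjective sbar
  have hs0 : s0 ∉ N := fun h => hp.ne_one (by
    rw [← hsbar, (QuotientGroup.eq_one_iff s0).2 h, orderOf_one])
  set n0 := orderOf s0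
  set j := n0.factorization p
  set m := n0 / p ^ j with hm
  have hmm : p ^ j * m = n0 := Nat.mul_div_cancel' (Nat.ordProj_dvd n0 p)
  have hmp : ¬ p ∣ m := Nat.not_dvd_ordCompl hp (orderOf_pos s0).ne'
  set s := s0 ^ m with hs
  have hsN : s ∉ N := fun h => hs0 (mem_of_pow_coprime (C := N)
    ((hp.coprime_iff_not_dvd.2 hmp)) (by
      rw [← QuotientGroup.eq_one_iff, QuotientGroup.mk_pow, ← hsbar, pow_orderOf_eq_one]) h)
  have hspow : s ^ p ^ j = 1 := by rw [hs, ← pow_mul, mul_comm m, hmm, pow_orderOf_eq_one]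
  set φ : MulAut N := MulAut.conjNormal s
  -- a moved `q`-element
  obtain ⟨y, hyN, hyK⟩ : ∃ y ∈ N, y ∉ K := by
    by_contra hall
    simp only [not_exists, not_and, not_not] at hall
    have h2 := D.index_lt
    rw [Subgroup.relIndex_eq_one.2 hall] at h2
    have := Nat.pos_of_ne_zero (Subgroup.index_ne_zero_of_finite (H := N))
    omega
  obtain ⟨a, ha⟩ := D.pow
  haveI : (K.subgroupOf N).Normal := inferInstance
  have hyq : (⟨y, hyN⟩ : N) ^ q ^ a ∈ K.subgroupOf N := by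
    rw [← ha]; exact Subgroup.pow_index_mem _ _
  set o := orderOf y
  set i := o.factorization q
  have hoo : q ^ i * (o / q ^ i) = o := Nat.mul_div_cancel' (Nat.ordProj_dvd o q)
  have hoq : ¬ q ∣ o / q ^ i := Nat.not_dvd_ordCompl D.prime (orderOf_pos y).ne'
  set x : N := (⟨y, hyN⟩ : N) ^ (o / q ^ i) with hx
  have hxK : (x : G) ∉ K := fun h => hyK (mem_of_pow_coprime (C := K)
    ((D.prime.coprime_iff_not_dvd.2 hoq).pow_left a) (Subgroup.mem_subgroupOf.1 hyq) h)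
  have hxq : x ^ q ^ i = 1 := Subtype.ext (by
    rw [SubgroupClass.coe_pow, hx, SubgroupClass.coe_pow, ← pow_mul, mul_comm, hoo,
      pow_orderOf_eq_one]; rfl)
  have hxmoved : x ∉ fixMod φ (commutator N) := by
    intro h
    refine hxK (D.fpf s hsN x x.2 ?_)
    have hWK : commutator N ≤ K.subgroupOf N := by
      rw [commutator_def, Subgroup.commutator_le]
      exact fun u _ v _ => D.comm u u.2 v v.2
    have h1 : ((x : G))⁻¹ * (s * x * s⁻¹) ∈ K := hWK (mem_fixMod.1 h)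
    have h2 := hK.conj_mem _ h1 (x : G)
    simpa [commutatorElement_def, mul_assoc] using h2
  have hφpow : φ ^ p ^ j = 1 := by rw [← map_pow, hspow, map_one]
  have hpq : p ≠ q := fun e => hqf (e ▸ hpf)
  have D' : Hyp N φ p q :=
    { hp := hp
      hq := D.prime
      ne := hpq
      pow := ⟨j, hφpow⟩
      inv := fun ψ h1 n => by
        obtain ⟨χ, -, hres⟩ := hext ψ h1
        rw [← hres]
        show (χ : G → ℂ) (s * n * s⁻¹) = (χ : G → ℂ) n
        exact Char.IsCharacter.isClassFunction (Char.IsIrrCharacter.isCharacter χ.2) _ _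
      copr := fun ψ h1 hd => by
        obtain ⟨χ, hχ, -⟩ := hext ψ h1
        exact hp.not_dvd_one ((hsep χ (hχ ▸ hψq ψ h1)) ▸ Nat.dvd_gcd (hχ ▸ hd) hpf)
      dvd := hψq
      anti := fun ψ ψ' h1 hd => by
        by_cases h2 : Cfsg.charDegree (ψ' : N → ℂ) = 1
        · rw [h2] at hd ⊢; exact Nat.dvd_one.1 hd
        obtain ⟨χ, hχ, -⟩ := hext ψ h1
        obtain ⟨χ', hχ', -⟩ := hext ψ' h2
        rw [← hχ, ← hχ'] at hd ⊢
        exact hanti χ χ' (hχ ▸ h1) hd
      moved := ⟨x, i, hxq, hxmoved⟩ }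
  -- there is a non-linear character of `N`
  obtain ⟨ψ0, hψ0⟩ : ∃ ψ : Cfsg.IrrCharacter N, Cfsg.charDegree (ψ : N → ℂ) ≠ 1 := by
    by_contra hall
    simp only [not_exists, ne_eq, not_not] at hall
    obtain ⟨v, hv, hvf⟩ := Nat.exists_prime_and_dvd hf1
    have hvP : v ∈ Cfsg.degreePrimes G := ⟨hv, _, ⟨χf, rfl⟩, hχf ▸ hvf⟩
    refine not_two_of_base htwo ⟨⟨v, hvP⟩, fun ⟨w, hw⟩ => ?_⟩
    obtain ⟨d, ⟨χ, rfl⟩, hwd⟩ := hw.2
    refine reach ⟨χ, rfl⟩ hvP hw ?_ hwd
    obtain ⟨θ, hθ⟩ := Char.exists_restrict_constituent χ.2 N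
    obtain ⟨e, he, hed⟩ := ThreeDeg.exists_ratio N χ θ hθ
    rw [hall θ, mul_one] at he
    have h2 := hanti χ χf (fun h1 => hw.1.not_dvd_one (h1 ▸ hwd)) (by rw [he, hχf]; exact hed)
    rw [h2, hχf]
    exact hvf
  obtain ⟨χ0, hχ0, -⟩ := hext ψ0 hψ0
  set d := Cfsg.charDegree (ψ0 : N → ℂ)
  have hset : Cfsg.charDegrees G = {1, f, d} := by
    ext a
    simp only [Cfsg.charDegrees, Set.mem_ofPred_eq, Set.mem_insert_iff, Set.mem_singleton_iff]
    constructor
    · rintro ⟨χ, rfl⟩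
      by_cases h1 : Cfsg.charDegree (χ : G → ℂ) = 1
      · exact Or.inl h1
      right
      obtain ⟨θ, hθ⟩ := Char.exists_restrict_constituent χ.2 N
      obtain ⟨e, he, hed⟩ := ThreeDeg.exists_ratio N χ θ hθ
      by_cases hθ1 : Cfsg.charDegree (θ : N → ℂ) = 1
      · left
        rw [hθ1, mul_one] at he
        rw [hanti χ χf h1 (by rw [he, hχf]; exact hed), hχf]
      · right
        have hc := hsep χ (by rw [he]; exact (hψq θ hθ1).mul_left _)
        rw [he, Nat.eq_one_of_dvd_coprimes hc (he ▸ Dvd.intro _ rfl) hed, one_mul]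
        exact D'.single θ ψ0 hθ1 hψ0
    · rintro (rfl | rfl | rfl)
      · exact ⟨Char.principal G, ThreeDeg.charDegree_principal G⟩
      · exact ⟨χf, hχf⟩
      · exact ⟨χ0, hχ0⟩
  rw [hset, Nat.card_coe_set_eq, Set.ncard_eq_three]
  refine ⟨1, f, d, Ne.symm hf1, Ne.symm hψ0, fun e => hqf (e ▸ hψq ψ0 hψ0), rfl⟩

end Cfsg.Agent.TwoComp
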