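import Cfsg.Agent.Lib.TwoComp.Stab

/-!
# The derived subgroup of the kernel is abelian
-/

set_option autoImplicit false
set_option linter.style.haveILetI false
set_option linter.unusedSectionVars false

namespace Cfsg.Agent.TwoComp

open Cfsg.Agent
open scoped commutatorElement

universe u

variable {N : Type u} [Group N] [Finite N] {φ : MulAut N} {p q : ℕ}

/-- Every invariant non-trivial normal subgroup contains the second derived subgroup. -/
def Minimal (φ : MulAut N) : Prop :=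
  ∀ Y : Subgroup N, Y.Normal → (∀ y ∈ Y, φ y ∈ Y) → Y ≠ ⊥ →
    ⁅commutator N, commutator N⁆ ≤ Y

theorem pow_bracket_mem {x : N} {m : ℕ} (hx : x ^ m = 1) (φ : MulAut N) :
    (x⁻¹ * φ x) ^ m ∈ commutator N := by
  refine (QuotientGroup.eq_one_iff _).1 ?_
  show (Abelianization.of (x⁻¹ * φ x)) ^ m = 1
  rw [map_mul, mul_pow, ← map_pow, ← map_pow, inv_pow, ← map_pow, hx]
  simp

theorem r_group (hmin : Minimal φ) {r : ℕ} (hr : r.Prime)
    (hc : ∀ z ∈ ⁅commutator N, commutator N⁆, ∀ w ∈ commutator N, z * w = w * z)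
    (hZr : r ∣ Nat.card (⁅commutator N, commutator N⁆ : Subgroup N)) :
    IsPGroup r (commutator N) := by
  classical
  haveI := Fact.mk hr
  set W := commutator N with hW
  set Z := ⁅W, W⁆ with hZ
  have hZW : Z ≤ W := Subgroup.commutator_le_left W W
  obtain ⟨z0, hz0⟩ := exists_prime_orderOf_dvd_card' r hZr
  -- the elements of exponent `r`
  let Y : Subgroup N :=
    { carrier := {z | z ∈ Z ∧ z ^ r = 1}
      one_mem' := ⟨Z.one_mem, one_pow r⟩
      mul_mem' := fun {a b} ha hb => ⟨Z.mul_mem ha.1 hb.1, by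
        rw [(show Commute a b from hc a ha.1 b (hZW hb.1)).mul_pow, ha.2, hb.2, one_mul]⟩
      inv_mem' := fun {a} ha => ⟨Z.inv_mem ha.1, by rw [inv_pow, ha.2, inv_one]⟩ }
  have hYn : Y.Normal := ⟨fun z hz g => ⟨(inferInstance : Z.Normal).conj_mem z hz.1 g,
    by rw [conj_pow, hz.2, mul_one, mul_inv_cancel]⟩⟩
  have hexp : ∀ z ∈ Z, z ^ r = 1 := by
    intro z hz
    have hne : Y ≠ ⊥ := fun h => by
      have h1 : (z0 : N) ∈ Y := ⟨z0.2, by
        rw [← Subgroup.coe_pow, ← hz0, pow_orderOf_eq_one]; rfl⟩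
      rw [h, Subgroup.mem_bot] at h1
      rw [show z0 = 1 from Subtype.ext h1, orderOf_one] at hz0
      exact hr.ne_one hz0.symm
    exact (hmin Y hYn (fun y hy => ⟨map_mem_bracket φ (fun s => map_mem_commutator φ) hy.1,
      by rw [← map_pow, hy.2, map_one]⟩) hne hz).2
  -- powers prime to `r`
  set m := Nat.card W with hm
  set e := m.factorization r with he
  have he1 : 1 ≤ e := (hr.dvd_iff_one_le_factorization Nat.card_pos.ne').1
    (hZr.trans (Subgroup.card_dvd_of_le hZW))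
  set m' := m / r ^ e with hm'
  have hmm : r ^ e * m' = m := Nat.mul_div_cancel' (Nat.ordProj_dvd m r)
  have hm'r : ¬ r ∣ m' := Nat.not_dvd_ordCompl hr Nat.card_pos.ne'
  have hcent : ∀ a ∈ W, ∀ b ∈ W, a ^ r * b = b * a ^ r := by
    intro a ha b hb
    have hz : ⁅a, b⁆ ∈ Z := Subgroup.commutator_mem_commutator ha hb
    have hit : ∀ i : ℕ, a ^ i * b = ⁅a, b⁆ ^ i * b * a ^ i := by
      intro i
      induction i with
      | zero => simp
      | succ i ih =>
        have h1 := (Commute.pow_left (show Commute ⁅a, b⁆ a from hc _ hz a ha) i).eq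
        calc a ^ (i + 1) * b = a * (a ^ i * b) := by rw [pow_succ']; group
          _ = a * ⁅a, b⁆ ^ i * b * a ^ i := by rw [ih]; group
          _ = ⁅a, b⁆ ^ i * (a * b) * a ^ i := by rw [← h1]; group
          _ = ⁅a, b⁆ ^ i * (⁅a, b⁆ * b * a) * a ^ i := by
              rw [show ⁅a, b⁆ * b * a = a * b by rw [commutatorElement_def]; group]
          _ = _ := by rw [pow_succ, pow_succ' a]; group
    have := hit r
    rwa [hexp _ hz, one_mul] at this
  -- the central elements of order prime to `r`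
  let K : Subgroup N :=
    { carrier := {y | y ∈ W ∧ (∀ w ∈ W, y * w = w * y) ∧ y ^ m' = 1}
      one_mem' := ⟨W.one_mem, fun w _ => by rw [one_mul, mul_one], one_pow _⟩
      mul_mem' := fun {x y} hx hy => ⟨W.mul_mem hx.1 hy.1, fun w hw =>
        (Commute.mul_left (hx.2.1 w hw : Commute x w) (hy.2.1 w hw : Commute y w)).eq, by
        rw [(show Commute x y from hx.2.1 y hy.1).mul_pow, hx.2.2, hy.2.2, one_mul]⟩
      inv_mem' := fun {x} hx => ⟨W.inv_mem hx.1, fun w hw =>
        (Commute.inv_left (hx.2.1 w hw : Commute x w)).eq, by rw [inv_pow, hx.2.2, inv_one]⟩ }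
  intro a
  refine ⟨e, ?_⟩
  by_contra hne
  have haK : (a : N) ^ r ^ e ∈ K := by
    refine ⟨W.pow_mem a.2 _, fun w hw => ?_, ?_⟩
    · obtain ⟨k, hk⟩ : ∃ k, r ^ e = r * k := dvd_pow_self r (by omega)
      rw [hk, pow_mul]
      exact (Commute.pow_left (hcent a a.2 w hw : Commute ((a : N) ^ r) w) k).eq
    · rw [← pow_mul, hmm]
      exact congrArg Subtype.val (pow_card_eq_one' (x := a))
  have hKn : K.Normal := ⟨fun y hy x => ⟨(inferInstance : W.Normal).conj_mem y hy.1 x,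
    fun w hw => by
      have h1 := hy.2.1 _ ((inferInstance : W.Normal).conj_mem w hw x⁻¹)
      calc x * y * x⁻¹ * w = x * (y * (x⁻¹ * w * x⁻¹⁻¹)) * x⁻¹ := by group
        _ = x * ((x⁻¹ * w * x⁻¹⁻¹) * y) * x⁻¹ := by rw [h1]
        _ = w * (x * y * x⁻¹) := by group,
    by rw [conj_pow, hy.2.2, mul_one, mul_inv_cancel]⟩⟩
  have hz1 : (z0 : N) ∈ K := hmin K hKn (fun y hy => ⟨map_mem_commutator φ hy.1, fun w hw => by
      obtain ⟨w, rfl⟩ := φ.surjective w
      have h1 : w ∈ W := by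
        have := symm_mem (fun t ht => map_mem_commutator φ ht) hw
        rwa [φ.symm_apply_apply] at this
      rw [← map_mul, ← map_mul, hy.2.1 w h1], by rw [← map_pow, hy.2.2, map_one]⟩)
    (fun h => hne (Subtype.ext (Subgroup.mem_bot.1 (h ▸ haK)))) z0.2
  have h3 : orderOf (z0 : N) ∣ m' := orderOf_dvd_of_pow_eq_one hz1.2.2
  rw [Subgroup.orderOf_coe, hz0] at h3
  exact hm'r h3

theorem exists_ne_one_hom {A : Type u} [Group A] [Finite A] (hcomm : ∀ a b : A, a * b = b * a)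
    (R : Subgroup A) (hR : R ≠ ⊤) : ∃ l : A →* ℂˣ, l ≠ 1 ∧ ∀ x ∈ R, l x = 1 := by
  haveI : IsMulCommutative A := ⟨⟨hcomm⟩⟩
  haveI : R.Normal := ⟨fun x hx g => by rw [hcomm g x, mul_inv_cancel_right]; exact hx⟩
  obtain ⟨a, ha⟩ : ∃ a, a ∉ R := by
    by_contra h
    simp only [not_exists, not_not] at h
    exact hR (eq_top_iff.2 fun x _ => h x)
  haveI : IsMulCommutative (A ⧸ R) := ⟨⟨fun x y => by
    obtain ⟨x, rfl⟩ := QuotientGroup.mk_surjective x
    obtain ⟨y, rfl⟩ := QuotientGroup.mk_surjective y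
    exact congrArg ((↑) : A → A ⧸ R) (hcomm x y)⟩⟩
  obtain ⟨l, hl⟩ := ThreePrimes.exists_linear_ne_one (A := A ⧸ R) (a := (a : A ⧸ R))
    fun e => ha ((QuotientGroup.eq_one_iff a).1 e)
  refine ⟨l.comp (QuotientGroup.mk' R), fun e => hl (DFunLike.congr_fun e a), fun x hx => ?_⟩
  show l (x : A ⧸ R) = 1
  rw [(QuotientGroup.eq_one_iff x).2 hx, map_one]

namespace Hyp

/-- In a minimal situation the derived subgroup is abelian. -/
theorem absurd_minimal (D : Hyp N φ p q) (hW : (Nat.card (commutator N)).Coprime q)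
    (hmin : Minimal φ) (hne : ⁅commutator N, commutator N⁆ ≠ ⊥) : False := by
  classical
  haveI := Fintype.ofFinite N
  haveI := D.nilpotent hW
  set W := commutator N with hWdef
  set Z := ⁅W, W⁆ with hZdef
  haveI : Fintype W := Fintype.ofFinite _
  haveI : Fintype Z := Fintype.ofFinite _
  have hZW : Z ≤ W := Subgroup.commutator_le_left W W
  have hZφ : ∀ z ∈ Z, φ z ∈ Z := fun z hz =>
    map_mem_bracket φ (fun s => map_mem_commutator φ) hz
  have hWne : W ≠ ⊥ := fun h => hne (le_bot_iff.1 (h ▸ hZW))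
  have hZmap : ∀ {c : W}, (c : N) ∈ Z ↔ c ∈ commutator W := by
    intro c
    rw [hZdef, ← Subgroup.map_subtype_commutator]
    exact ⟨fun ⟨d, hd, e⟩ => (Subtype.ext e : d = c) ▸ hd, fun h => ⟨c, h, rfl⟩⟩
  -- the second derived subgroup is central
  have hc : ∀ z ∈ Z, ∀ w ∈ W, z * w = w * z := by
    have hY : Z ≤ Z ⊓ Subgroup.centralizer (W : Set N) := by
      refine hmin _ inferInstance (fun y hy => ⟨hZφ y hy.1, ?_⟩) ?_
      · show φ y ∈ Subgroup.centralizer (W : Set N)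
        rw [Subgroup.mem_centralizer_iff]
        intro w hw
        obtain ⟨w, rfl⟩ := φ.surjective w
        have h1 : w ∈ W := by
          have := symm_mem (fun t ht => map_mem_commutator φ ht) hw
          rwa [φ.symm_apply_apply] at this
        rw [← map_mul, ← map_mul, Subgroup.mem_centralizer_iff.1 hy.2 w h1]
      · intro h
        have hne' : commutator W ≠ ⊥ := fun e => hne (by
          rw [hZdef, ← Subgroup.map_subtype_commutator, e, Subgroup.map_bot])
        refine SolvStruct.inf_center_ne_bot hne' ((Subgroup.eq_bot_iff_forall _).2 fun c hc => ?_)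
        refine Subtype.ext (Subgroup.mem_bot.1 (h ▸ ?_ : (c : N) ∈ (⊥ : Subgroup N)))
        refine ⟨hZmap.2 hc.1, ?_⟩
        show (c : N) ∈ Subgroup.centralizer (W : Set N)
        rw [Subgroup.mem_centralizer_iff]
        exact fun w hw => congrArg Subtype.val (Subgroup.mem_center_iff.1 hc.2 ⟨w, hw⟩)
    exact fun z hz w hw => ((Subgroup.mem_centralizer_iff.1 (hY hz).2) w hw).symm
  -- everything below the derived subgroup is an `r`-group
  obtain ⟨r, hr, hrZ⟩ := Nat.exists_prime_and_dvd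
    (fun h => hne (Subgroup.card_eq_one.1 h) : Nat.card Z ≠ 1)
  haveI := Fact.mk hr
  have hWr := r_group hmin hr hc hrZ
  haveI hZc : IsMulCommutative Z := ⟨⟨fun a b => Subtype.ext (hc a a.2 b (hZW b.2))⟩⟩
  obtain ⟨c, hcard⟩ := (hWr.to_le hZW).exists_card_eq
  have hZhom : Nat.card (Z →* ℂˣ) = r ^ c := by rw [ThreePrimes.card_hom_eq, hcard]
  obtain ⟨a, ha⟩ := hWr.index (commutator W)
  haveI : IsMulCommutative (Abelianization W) := ⟨⟨fun a b => mul_comm a b⟩⟩
  haveI : Finite (Abelianization W) := inferInstanceAs (Finite (W ⧸ commutator W))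
  have hWhom : Nat.card (W →* ℂˣ) = r ^ a := by
    rw [Nat.card_congr Abelianization.lift, ThreePrimes.card_hom_eq, ← ha]
    rfl
  obtain ⟨⟨μ0, hμ0⟩, R, SR⟩ := D.exists_stab hW hWne
  haveI := SR.normal
  have hRW := SR.le
  -- the stabiliser centralises `Z`
  have hRZ : ∀ n ∈ R, ∀ z ∈ Z, n * z * n⁻¹ = z := by
    intro n hn z hz
    have hle : Z ≤ Subgroup.centralizer ({n} : Set N) := by
      rw [hZdef, Subgroup.commutator_le]
      intro x hx y hy
      rw [Subgroup.mem_centralizer_singleton_iff]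
      have h1 := SR.cent n hn x hx
      have h2 := SR.cent n hn y hy
      have key : ∀ z1 ∈ Z, ∀ z2 ∈ Z, ⁅z1 * x, z2 * y⁆ = ⁅x, y⁆ := by
        intro z1 hz1 z2 hz2
        have c1 : ∀ t ∈ W, z1 * t * z1⁻¹ = t := fun t ht => by
          rw [hc z1 hz1 t ht, mul_inv_cancel_right]
        have c2 : ∀ t ∈ W, z2 * t * z2⁻¹ = t := fun t ht => by
          rw [hc z2 hz2 t ht, mul_inv_cancel_right]
        calc ⁅z1 * x, z2 * y⁆
            = z1 * ⁅x, z2 * y⁆ * ((z2 * y) * z1⁻¹ * (z2 * y)⁻¹) := by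
              simp only [commutatorElement_def]; group
          _ = z1 * ⁅x, z2 * y⁆ * z1⁻¹ := by
              rw [← hc z1⁻¹ (Z.inv_mem hz1) _ (W.mul_mem (hZW hz2) hy), mul_inv_cancel_right]
          _ = ⁅x, z2 * y⁆ := c1 _ (hZW (Subgroup.commutator_mem_commutator hx
              (W.mul_mem (hZW hz2) hy)))
          _ = x * z2 * x⁻¹ * ⁅x, y⁆ * z2⁻¹ := by simp only [commutatorElement_def]; group
          _ = z2 * ⁅x, y⁆ * z2⁻¹ := by rw [← hc z2 hz2 x hx, mul_inv_cancel_right]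
          _ = _ := c2 _ (hZW (Subgroup.commutator_mem_commutator hx hy))
      have e : n * ⁅x, y⁆ * n⁻¹ = ⁅x, y⁆ := by
        refine Eq.trans ?_ (key _ h1 _ h2)
        simp only [commutatorElement_def]; group
      exact (mul_inv_eq_iff_eq_mul.1 e).symm
    rw [← Subgroup.mem_centralizer_singleton_iff.1 (hle hz), mul_inv_cancel_right]
  have hRfixZ : ∀ n ∈ R, ∀ μ : Z →* ℂˣ, n ∈ Char.inertia Z fun z : Z => (μ z : ℂ) := by
    intro n hn μ
    rw [ThreePrimes.mem_inertia_linear]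
    intro a b hb
    rw [show b = a from Subtype.ext (by rw [hb, hRZ n hn a a.2])]
  -- `W` fixes the characters of `Z`
  have hWfixZ : ∀ w ∈ W, ∀ μ : Z →* ℂˣ, w ∈ Char.inertia Z fun z : Z => (μ z : ℂ) :=
    fun w hw => hRfixZ w (hRW hw)
  -- the derived subgroup of `W` as `Z`
  let eW : commutator W ≃* Z :=
    { toFun := fun c => ⟨(c : W), hZmap.2 c.2⟩
      invFun := fun z => ⟨⟨z, hZW z.2⟩, hZmap.1 z.2⟩
      left_inv := fun _ => rfl
      right_inv := fun _ => rfl
      map_mul' := fun _ _ => rfl }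
  haveI : Fintype (commutator W) := Fintype.ofFinite _
  have hcW : commutator W ≤ Subgroup.center W := fun c hc' =>
    Subgroup.mem_center_iff.2 fun w => Subtype.ext (hc _ (hZmap.2 hc') w w.2).symm
  have hbr : ∀ u v : W, ⁅u, v⁆ ∈ commutator W := fun u v =>
    Subgroup.commutator_mem_commutator (Subgroup.mem_top u) (Subgroup.mem_top v)
  have hlin : ∀ (θ : Cfsg.IrrCharacter W) (μ : Z →* ℂˣ), μ ≠ 1 →
      Over (μ.comp eW.toMonoidHom) θ → Cfsg.charDegree (θ : W → ℂ) ≠ 1 := by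
    intro θ μ hμ ho h1
    refine hμ (MonoidHom.ext fun z => ?_)
    obtain ⟨g, hg⟩ := Char.exists_hom_of_degree_one (Char.IsIrrCharacter.isCharacter θ.2)
      (by rw [CharX.irr_deg, h1, Nat.cast_one])
    have h2 := ho (eW.symm z)
    rw [hg] at h2
    simp only [map_one, Units.val_one, mul_one] at h2
    rw [MonoidHom.mem_ker.1 (Abelianization.commutator_subset_ker g (eW.symm z).2)] at h2
    simp only [MonoidHom.comp_apply, MulEquiv.coe_toMonoidHom, MulEquiv.apply_symm_apply] at h2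
    exact (Units.ext h2).symm
  -- characters over a linear character of `Z`
  have hover : ∀ μ : Z →* ℂˣ, μ ≠ 1 → ∃ (θ : Cfsg.IrrCharacter W) (χ : Cfsg.IrrCharacter N),
      Cfsg.classInner (fun z : Z => (χ : N → ℂ) z) (fun z => (μ z : ℂ)) ≠ 0 ∧
      Cfsg.classInner (fun w : W => (χ : N → ℂ) w) (θ : W → ℂ) ≠ 0 ∧
      Over (μ.comp eW.toMonoidHom) θ ∧ Cfsg.charDegree (χ : N → ℂ) ≠ 1 := by
    intro μ hμ
    obtain ⟨χ, hχ⟩ := Char.Ito.exists_above Z ⟨_, Char.isIrrCharacter_linear μ⟩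
    have e1 : Cfsg.classInner (fun c : commutator W => (χ : N → ℂ) ((c : W) : N))
        (fun c => ((μ.comp eW.toMonoidHom) c : ℂ)) =
        Cfsg.classInner (fun z : Z => (χ : N → ℂ) z) (fun z => (μ z : ℂ)) := by
      simp only [Cfsg.classInner]
      rw [Nat.card_congr eW.toEquiv]
      congr 1
      exact Fintype.sum_equiv eW.toEquiv _ _ fun c => rfl
    have hdec := Char.IsCharacter.eq_sum
      (Char.IsCharacter.restrict (Char.IsIrrCharacter.isCharacter χ.2) W)
    have e2 : (fun c : commutator W => (χ : N → ℂ) ((c : W) : N)) =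
        ∑ θ : Cfsg.IrrCharacter W, Cfsg.classInner (fun w : W => (χ : N → ℂ) w) (θ : W → ℂ) •
          fun c : commutator W => (θ : W → ℂ) c := funext fun c => by
      have := congrFun hdec (c : W)
      simp only [Finset.sum_apply, Pi.smul_apply] at this ⊢
      exact this
    have h3 : Cfsg.classInner (fun c : commutator W => (χ : N → ℂ) ((c : W) : N))
        (fun c => ((μ.comp eW.toMonoidHom) c : ℂ)) ≠ 0 := by rw [e1]; exact hχ
    rw [e2, Char.classInner_sum_left] at h3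
    obtain ⟨θ, -, hθ⟩ := Finset.exists_ne_zero_of_sum_ne_zero h3
    rw [Char.classInner_smul_left, mul_ne_zero_iff] at hθ
    rcases over_or_zero hcW (μ.comp eW.toMonoidHom) θ with ⟨-, ho⟩ | ⟨h0, -⟩
    swap
    · exact absurd h0 hθ.2
    exact ⟨θ, χ, hχ, hθ.1, ho, fun h1 => hlin θ μ hμ ho
      (Nat.dvd_one.1 (h1 ▸ Char.Ito.dvd_of_over W χ θ hθ.1))⟩
  -- the equations
  obtain ⟨b, hb⟩ := dual_equation W D hW (fun s => map_mem_commutator φ) le_rfl R SR.map SR.le
    SR.copr SR.fix (fun μ hμ => by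
      intro _
      obtain ⟨χ, hχ, -, hχ1⟩ := D.deg_inertia hW hμ
      exact ⟨χ, hχ1, hχ⟩) hr hWhom
  obtain ⟨b', hb'⟩ := dual_equation Z D hW hZφ hZW R SR.map SR.le SR.copr hRfixZ (fun μ hμ => by
      intro hfin
      obtain ⟨θ, χ, hχ, -, -, hχ1⟩ := hover μ hμ
      refine ⟨χ, hχ1, ?_⟩
      convert hχ using 3) hr hZhom
  obtain ⟨x, hxq, hxm⟩ := D.exists_moved_prime hW
  obtain ⟨j, hj⟩ := D.pow
  have hC2 : 2 ≤ (fixMod φ R).index := by
    have h0 : (fixMod φ R).index ≠ 0 := Subgroup.index_ne_zero_of_finite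
    have h1 : (fixMod φ R).index ≠ 1 := fun h => by
      have hxR : x ∈ fixMod φ R := by rw [Subgroup.index_eq_one.1 h]; exact Subgroup.mem_top x
      exact hxm (fixMod_of_fixMod D.hp hj (fun w => map_mem_commutator φ)
        ⟨q, fun hd => D.ne ((Nat.prime_dvd_prime_iff_eq D.hp D.hq).1 hd), pow_bracket_mem hxq φ⟩
        (SR.unmoved (mem_fixMod.1 hxR)))
    omega
  haveI : Finite (W →* ℂˣ) := ThreePrimes.finite_hom W
  have ha0 : 0 < a := by
    rcases Nat.eq_zero_or_pos a with h | h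
    · rw [h, pow_zero, Nat.card_eq_one_iff_unique] at hWhom
      haveI := hWhom.1
      exact absurd (Subsingleton.elim μ0 1) hμ0
    · exact h
  have hc0 : 0 < c := by
    rcases Nat.eq_zero_or_pos c with h | h
    · rw [h, pow_zero, Subgroup.card_eq_one] at hcard
      exact absurd hcard hne
    · exact h
  have hac : a = c := exponent_unique hr.two_le hC2 ha0 hc0 hb hb'
  -- the index of the stabiliser is prime to `r`
  have hrR : ¬ r ∣ R.index := by
    letI := dualAct W (N := N)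
    let X := {μ : W →* ℂˣ // μ ≠ 1}
    haveI := Fintype.ofFinite (W →* ℂˣ)
    haveI := Fintype.ofFinite X
    haveI := Fintype.ofFinite (Quotient (MulAction.orbitRel N X))
    have h1 := Nat.card_congr (MulAction.selfEquivSigmaOrbitsQuotientStabilizer N X)
    rw [Nat.card_sigma] at h1
    have h2 : Nat.card X = r ^ a - 1 := by
      rw [← hWhom, Nat.card_eq_fintype_card, Nat.card_eq_fintype_card, Fintype.card_subtype_compl,
        Fintype.card_subtype_eq]
    have h3 : R.index ∣ r ^ a - 1 := by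
      rw [← h2, h1]
      refine Finset.dvd_sum fun ω _ => ?_
      rw [← Subgroup.index_eq_card, stabilizer_dualAct, SR.inertia _ ω.out.2]
    intro hd
    have h4 := hd.trans h3
    have h5 : r ∣ r ^ a := dvd_pow_self r ha0.ne'
    have h6 := Nat.dvd_sub h5 h4
    rw [Nat.sub_sub_self (Nat.one_le_pow _ _ hr.pos)] at h6
    exact hr.not_dvd_one h6
  obtain ⟨i, hi⟩ := hWr.exists_card_eq
  obtain ⟨χ0, hχ0, hχ01⟩ := SR.degree
  have hθμ : ∀ (μ : Z →* ℂˣ) (θ : Cfsg.IrrCharacter W), Over (μ.comp eW.toMonoidHom) θ →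
      Char.inertia W (θ : W → ℂ) ≤ Char.inertia Z (fun z : Z => (μ z : ℂ)) := by
    intro μ θ ho g hg
    rw [ThreePrimes.mem_inertia_linear]
    intro u v huv
    have h1 := (Char.mem_inertia_iff W).1 hg (eW.symm u : W)
    rw [show (⟨g * ((eW.symm u : W) : N) * g⁻¹, _⟩ : W) = (eW.symm v : W) from Subtype.ext huv.symm,
      ho (eW.symm v), ho (eW.symm u)] at h1
    simp only [MonoidHom.comp_apply, MulEquiv.coe_toMonoidHom, MulEquiv.apply_symm_apply] at h1
    exact Units.ext (mul_right_cancel₀ (Char.IsIrrCharacter.one_ne_zero θ.2) h1)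
  by_cases hα : ∃ μ : Z →* ℂˣ, μ ≠ 1 ∧ Char.inertia Z (fun z : Z => (μ z : ℂ)) ≤ R
  · obtain ⟨μ, hμ, hle⟩ := hα
    obtain ⟨θ, χ, -, hθ, ho, hχ1⟩ := hover μ hμ
    have hdvd : R.index ∣ Cfsg.charDegree (χ : N → ℂ) :=
      (Subgroup.index_dvd_of_le ((hθμ μ θ ho).trans hle)).trans
        (ThreePrimes.orbit_dvd W χ θ.2 hθ)
    have h1 := D.anti χ0 χ hχ01 (by rw [hχ0]; exact hdvd)
    refine hlin θ μ hμ ho (Nat.eq_one_of_dvd_coprimes ?_
      (Char.Ito.dvd_of_over W χ θ hθ) (CharX.irr_deg_dvd_card θ))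
    rw [← h1, hχ0, hi]
    exact ((hr.coprime_iff_not_dvd.2 hrR).symm).pow_right i
  -- every non-trivial character of `Z` is fixed by the centraliser of `Z` only
  have hfixcent : ∀ μ : Z →* ℂˣ, μ ≠ 1 → ∀ n ∈ Char.inertia Z (fun z : Z => (μ z : ℂ)),
      n ∈ Subgroup.centralizer (Z : Set N) := by
    intro μ1 hμ1 n hn
    have hnW := mem_fixMod.1 (D.unmoved_of_inertia hW hZW hμ1 hn)
    let K : (Z →* ℂˣ) → Prop := fun μ => n ∈ Char.inertia Z fun z : Z => (μ z : ℂ)
    let Y : Subgroup N :=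
      { carrier := {z | ∃ hz : z ∈ Z, ∀ μ, K μ → μ ⟨z, hz⟩ = 1}
        one_mem' := ⟨Z.one_mem, fun μ _ => map_one μ⟩
        mul_mem' := fun {a b} ⟨ha, ha'⟩ ⟨hb, hb'⟩ => ⟨Z.mul_mem ha hb, fun μ hμ =>
          (map_mul μ ⟨a, ha⟩ ⟨b, hb⟩).trans (by rw [ha' μ hμ, hb' μ hμ, one_mul])⟩
        inv_mem' := fun {a} ⟨ha, ha'⟩ => ⟨Z.inv_mem ha, fun μ hμ =>
          (map_inv μ ⟨a, ha⟩).trans (by rw [ha' μ hμ, inv_one])⟩ }
    have hYn : Y.Normal := ⟨fun z ⟨hz, hz'⟩ g => ⟨(inferInstance : Z.Normal).conj_mem z hz g,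
      fun μ hμ => by
        refine hz' (μ.comp (Char.conjHom Z g)) ?_
        have hw : g * n * g⁻¹ * n⁻¹ ∈ W :=
          Subgroup.commutator_mem_commutator (Subgroup.mem_top g) (Subgroup.mem_top n)
        have h1 := mul_mem (hWfixZ _ hw μ) hμ
        rw [inv_mul_cancel_right, ThreePrimes.mem_inertia_linear] at h1
        show n ∈ Char.inertia Z _
        rw [ThreePrimes.mem_inertia_linear]
        exact fun a b hb => h1 _ _ (by simp [hb, mul_assoc])⟩⟩
    have hYφ : ∀ y ∈ Y, φ y ∈ Y := fun z ⟨hz, hz'⟩ => ⟨hZφ z hz, fun μ hμ => by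
      let e : Z →* Z :=
        { toFun := fun s => ⟨φ s, hZφ s s.2⟩
          map_one' := Subtype.ext (map_one _)
          map_mul' := fun _ _ => Subtype.ext (map_mul _ _ _) }
      refine hz' (μ.comp e) ?_
      have h1 := mul_mem hμ (hWfixZ _ hnW μ)
      rw [mul_inv_cancel_left, ThreePrimes.mem_inertia_linear] at h1
      show n ∈ Char.inertia Z _
      rw [ThreePrimes.mem_inertia_linear]
      intro a b hb
      refine h1 (e a) (e b) ?_
      show φ b = φ n * φ a * (φ n)⁻¹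
      rw [hb, map_mul, map_mul, map_inv]⟩
    have hY : Y = ⊥ := by
      by_contra hY
      refine hμ1 (MonoidHom.ext fun z => ?_)
      obtain ⟨_, hz⟩ := hmin Y hYn hYφ hY z.2
      exact hz μ1 hn
    rw [Subgroup.mem_centralizer_iff]
    intro z hz
    have hmem : n * z * n⁻¹ * z⁻¹ ∈ Y := by
      refine ⟨Z.mul_mem ((inferInstance : Z.Normal).conj_mem z hz n) (Z.inv_mem hz), fun μ hμ => ?_⟩
      have h1 := (ThreePrimes.mem_inertia_linear Z).1 hμ ⟨z, hz⟩
        ⟨n * z * n⁻¹, (inferInstance : Z.Normal).conj_mem z hz n⟩ rfl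
      rw [show (⟨n * z * n⁻¹ * z⁻¹, _⟩ : Z) = ⟨n * z * n⁻¹,
        (inferInstance : Z.Normal).conj_mem z hz n⟩ * ⟨z, hz⟩⁻¹ from rfl, map_mul, map_inv, h1,
        mul_inv_cancel]
    rw [hY, Subgroup.mem_bot, mul_inv_eq_one, mul_inv_eq_iff_eq_mul] at hmem
    exact hmem.symm
  set N0 := Subgroup.centralizer (Z : Set N) with hN0
  have hWN0 : W ≤ N0 := fun w hw => Subgroup.mem_centralizer_iff.2 fun z hz => hc z hz w hw
  have hN0fix : ∀ μ : Z →* ℂˣ, N0 ≤ Char.inertia Z fun z : Z => (μ z : ℂ) := by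
    intro μ n hn
    rw [ThreePrimes.mem_inertia_linear]
    intro u v huv
    rw [show v = u from Subtype.ext (by
      rw [huv, ← Subgroup.mem_centralizer_iff.1 hn u u.2, mul_inv_cancel_right])]
  obtain ⟨ν, hν⟩ : ∃ ν : Z →* ℂˣ, ν ≠ 1 := by
    haveI : Nontrivial Z := (Subgroup.nontrivial_iff_ne_bot Z).2 hne
    obtain ⟨z, hz⟩ := exists_ne (1 : Z)
    obtain ⟨l, hl⟩ := ThreePrimes.exists_linear_ne_one hz
    exact ⟨l, fun e => hl (by rw [e, MonoidHom.one_apply])⟩
  obtain ⟨n0, hn0, hn0R⟩ : ∃ n ∈ N0, n ∉ R := by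
    by_contra hall
    simp only [not_exists, not_and, not_not] at hall
    exact hα ⟨ν, hν, fun n hn => hall n (hfixcent ν hν n hn)⟩
  -- the complement
  obtain ⟨H, hbot, hsup, hab⟩ := D.exists_complement hW
  obtain ⟨w0, hw0, h0, hh0, rfl⟩ := Subgroup.mem_sup_of_normal_left.1
    (hsup ▸ Subgroup.mem_top n0 : n0 ∈ W ⊔ H)
  have hh0N : h0 ∈ N0 := by
    have := mul_mem (inv_mem (hWN0 hw0)) hn0
    rwa [inv_mul_cancel_left] at this
  have hh0R : h0 ∉ R := fun h => hn0R (mul_mem (hRW hw0) h)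
  have hcen : Subgroup.center N = ⊥ := by
    by_contra hce
    refine hne ((Subgroup.eq_bot_iff_forall _).2 fun z hz => D.fpf hW hxm (hZW hz) ?_)
    have h1 := hmin (Subgroup.center N) inferInstance (fun y hy => by
      rw [Subgroup.mem_center_iff]
      intro g
      obtain ⟨g, rfl⟩ := φ.surjective g
      rw [← map_mul, ← map_mul, Subgroup.mem_center_iff.1 hy g]) hce hz
    exact Subgroup.mem_center_iff.1 h1 x
  have hRH : ∀ k ∈ R, k ∈ H → k = 1 := by
    intro k hkR hkH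
    have hval : ∀ u ∈ W, k * u * k⁻¹ * u⁻¹ ∈ Z := fun u hu => SR.cent k hkR u hu
    let T : W ⧸ commutator W → W ⧸ commutator W := fun Q =>
      ((⟨h0 * (Q.out : W) * h0⁻¹ * ((Q.out : W) : N)⁻¹, W.mul_mem
        ((inferInstance : W.Normal).conj_mem _ Q.out.2 h0) (W.inv_mem Q.out.2)⟩ : W) :
          W ⧸ commutator W)
    have hT : Function.Injective T := by
      intro P Q hPQ
      rw [← QuotientGroup.out_eq' P, ← QuotientGroup.out_eq' Q]
      refine QuotientGroup.eq.2 (hZmap.1 ?_)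
      set u := ((P.out : W) : N)
      set v := ((Q.out : W) : N)
      show u⁻¹ * v ∈ Z
      refine SR.fpf h0 hh0R _ (W.mul_mem (W.inv_mem P.out.2) Q.out.2) ?_
      have h1 : (h0 * u * h0⁻¹ * u⁻¹)⁻¹ * (h0 * v * h0⁻¹ * v⁻¹) ∈ Z :=
        hZmap.2 (QuotientGroup.eq.1 hPQ)
      have hu : u ∈ W := P.out.2
      have h2 := (inferInstance : Z.Normal).conj_mem _ h1 u⁻¹
      have e : h0 * (u⁻¹ * v) * h0⁻¹ * (u⁻¹ * v)⁻¹ =
          u⁻¹ * ((h0 * u * h0⁻¹ * u⁻¹)⁻¹ * (h0 * v * h0⁻¹ * v⁻¹)) * u⁻¹⁻¹ := by group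
      exact e ▸ h2
    have hkW : ∀ w ∈ W, k * w * k⁻¹ * w⁻¹ = 1 := by
      intro w hw
      obtain ⟨Q, hQ⟩ := (Finite.injective_iff_surjective.1 hT) ((⟨w, hw⟩ : W) : W ⧸ commutator W)
      set u := ((Q.out : W) : N)
      set v := h0 * u * h0⁻¹ * u⁻¹ with hv
      have hu : u ∈ W := Q.out.2
      have hu' : h0 * u * h0⁻¹ ∈ W := (inferInstance : W.Normal).conj_mem u hu h0
      have hvW : v ∈ W := W.mul_mem hu' (W.inv_mem hu)
      have hz : v⁻¹ * w ∈ Z := hZmap.2 (QuotientGroup.eq.1 hQ)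
      have hmul : ∀ a ∈ W, ∀ b ∈ W, k * (a * b) * k⁻¹ * (a * b)⁻¹ =
          (k * a * k⁻¹ * a⁻¹) * (k * b * k⁻¹ * b⁻¹) := by
        intro a ha b hb
        calc k * (a * b) * k⁻¹ * (a * b)⁻¹
            = (k * a * k⁻¹ * a⁻¹) * (a * (k * b * k⁻¹ * b⁻¹) * a⁻¹) := by group
          _ = _ := by rw [← hc _ (hval b hb) a ha, mul_inv_cancel_right]
      have h1 : k * (h0 * u * h0⁻¹) * k⁻¹ * (h0 * u * h0⁻¹)⁻¹ = k * u * k⁻¹ * u⁻¹ := by
        calc k * (h0 * u * h0⁻¹) * k⁻¹ * (h0 * u * h0⁻¹)⁻¹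
            = (k * h0) * u * (h0⁻¹ * k⁻¹) * h0 * u⁻¹ * h0⁻¹ := by group
          _ = (h0 * k) * u * (h0⁻¹ * k⁻¹) * h0 * u⁻¹ * h0⁻¹ := by rw [hab k hkH h0 hh0]
          _ = (h0 * k) * u * (k * h0)⁻¹ * h0 * u⁻¹ * h0⁻¹ := by rw [mul_inv_rev]
          _ = (h0 * k) * u * (h0 * k)⁻¹ * h0 * u⁻¹ * h0⁻¹ := by rw [hab k hkH h0 hh0]
          _ = h0 * (k * u * k⁻¹ * u⁻¹) * h0⁻¹ := by group
          _ = _ := by
            rw [← Subgroup.mem_centralizer_iff.1 hh0N _ (hval u hu), mul_inv_cancel_right]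
      have h2 : k * v * k⁻¹ * v⁻¹ = 1 := by
        have e := hmul v hvW u hu
        rw [show v * u = h0 * u * h0⁻¹ by rw [hv, inv_mul_cancel_right], h1] at e
        exact mul_eq_right.1 e.symm
      have h3 : k * (v⁻¹ * w) * k⁻¹ * (v⁻¹ * w)⁻¹ = 1 := by
        rw [hRZ k hkR _ hz, mul_inv_cancel]
      rw [show w = v * (v⁻¹ * w) by group, hmul v hvW _ (hZW hz), h2, h3, one_mul]
    have hk : k ∈ Subgroup.center N := by
      rw [Subgroup.mem_center_iff]
      intro g
      obtain ⟨w, hw, h, hh, rfl⟩ := Subgroup.mem_sup_of_normal_left.1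
        (hsup ▸ Subgroup.mem_top g : g ∈ W ⊔ H)
      have hwk : k * w = w * k := mul_inv_eq_iff_eq_mul.1 (mul_inv_eq_one.1 (hkW w hw))
      rw [mul_assoc, ← hab k hkH h hh, ← mul_assoc, ← hwk, mul_assoc]
    rwa [hcen, Subgroup.mem_bot] at hk
  have hRWeq : R = W := by
    refine le_antisymm (fun n hn => ?_) hRW
    obtain ⟨w, hw, h, hh, rfl⟩ := Subgroup.mem_sup_of_normal_left.1
      (hsup ▸ Subgroup.mem_top n : n ∈ W ⊔ H)
    have hhR : h ∈ R := by
      have := mul_mem (inv_mem (hRW hw)) hn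
      rwa [inv_mul_cancel_left] at this
    rw [hRH h hhR hh, mul_one]
    exact hw
  have hcop : (Nat.card W).Coprime W.index := by
    rw [hi, ← hRWeq]
    exact (hr.coprime_iff_not_dvd.2 hrR).pow_left i
  -- an element of prime order
  obtain ⟨l, hl, hld⟩ := Nat.exists_prime_and_dvd (n := Nat.card (N0 ⊓ H : Subgroup N)) fun h1 =>
    hh0R (by
      have : h0 ∈ (⊥ : Subgroup N) := Subgroup.card_eq_one.1 h1 ▸ Subgroup.mem_inf.2 ⟨hh0N, hh0⟩
      rw [Subgroup.mem_bot.1 this]; exact R.one_mem)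
  haveI := Fact.mk hl
  obtain ⟨hx', hord⟩ := exists_prime_orderOf_dvd_card' l hld
  rw [← Subgroup.orderOf_coe] at hord
  obtain ⟨h, hh'⟩ := hx'
  obtain ⟨hhN0, hhH⟩ := Subgroup.mem_inf.1 hh'
  replace hord : orderOf h = l := hord
  have hhW : h ∉ W := fun hh => by
    have : h ∈ W ⊓ H := ⟨hh, hhH⟩
    rw [hbot, Subgroup.mem_bot] at this
    rw [this, orderOf_one] at hord
    exact hl.ne_one hord.symm
  have hlr : l ≠ r := by
    intro e
    refine hrR ?_
    rw [hRWeq, Subgroup.index_eq_card, ← e]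
    have h1 : orderOf (h : N ⧸ W) = l := by
      refine orderOf_eq_prime ?_ fun e1 => hhW ((QuotientGroup.eq_one_iff h).1 e1)
      rw [← QuotientGroup.mk_pow, ← hord, pow_orderOf_eq_one, QuotientGroup.mk_one]
    rw [← h1]
    exact orderOf_dvd_natCard _
  set α : MulAut W := MulAut.conjNormal h with hαdef
  have hαl : α ^ l = 1 := by rw [hαdef, ← map_pow, ← hord, pow_orderOf_eq_one, map_one]
  have hαval : ∀ u : W, ((α u : W) : N) = h * u * h⁻¹ := fun u => MulAut.conjNormal_apply h u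
  have hαZ : ∀ z : commutator W, α z = z := fun z => Subtype.ext (by
    rw [hαval, ← Subgroup.mem_centralizer_iff.1 hhN0 _ (hZmap.2 z.2), mul_inv_cancel_right])
  have hαfpf : ∀ u : W, α u * u⁻¹ ∈ commutator W → u ∈ commutator W := fun u hu => by
    refine hZmap.1 (SR.fpf h (fun hR' => hhW (hRWeq ▸ hR')) u u.2 ?_)
    have h1 := hZmap.2 hu
    rwa [Subgroup.coe_mul, Subgroup.coe_inv, hαval] at h1
  -- all pairings are non-degenerate
  have hrad : ∀ lam : commutator W →* ℂˣ, lam ≠ 1 →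
      radical hbr hcW lam ≤ commutator W := by
    intro lam hlam
    by_contra hle
    set μ : Z →* ℂˣ := lam.comp eW.symm.toMonoidHom with hμdef
    have hμlam : μ.comp eW.toMonoidHom = lam := MonoidHom.ext fun c => by simp [hμdef]
    have hμ1 : μ ≠ 1 := fun e => hlam (by rw [← hμlam, e, MonoidHom.one_comp])
    have hIμ : Char.inertia Z (fun z : Z => (μ z : ℂ)) = N0 :=
      le_antisymm (hfixcent μ hμ1) (hN0fix μ)
    set U := radical hbr hcW lam with hU
    let F := {θ : Cfsg.IrrCharacter W // Over lam θ}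
    have hcardF := card_over hbr hcW lam
    have hFdvd : Nat.card F ∣ r ^ i := by
      rw [← hi]
      exact (Dvd.intro _ hcardF).trans (Subgroup.card_subgroup_dvd_card U)
    have hFne : Nat.card F ≠ 1 := fun h1 => by
      rw [h1, one_mul] at hcardF
      exact hle (Subgroup.eq_of_le_of_card_ge (le_radical hbr hcW) hcardF.ge).ge
    obtain ⟨⟨θ0, ho0⟩, hfix0⟩ := exists_fixed (j := 1) hl (fun hd => hlr
        ((Nat.prime_dvd_prime_iff_eq hl hr).1 (hl.dvd_of_dvd_pow (hd.trans hFdvd))))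
      (fun θ : F => (⟨twist α θ.1, over_twist α hαZ θ.2⟩ : F)) (by
        have hiter : ∀ (m : ℕ) (θ : F), ((fun θ : F => (⟨twist α θ.1, over_twist α hαZ θ.2⟩ : F))^[m]
            θ).1 = twist (α ^ m) θ.1 := by
          intro m
          induction m with
          | zero => intro θ; exact Subtype.ext rfl
          | succ m ih =>
            intro θ
            rw [Function.iterate_succ_apply', pow_succ]
            refine Subtype.ext (funext fun w => ?_)
            show ((_ : F).1 : W → ℂ) (α w) = _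
            rw [ih]
            rfl
        funext θ
        refine Subtype.ext ?_
        rw [pow_one, hiter, hαl]
        rfl)
    have hf0 : twist α θ0 = θ0 := congrArg Subtype.val hfix0
    obtain ⟨θ1, ho1, hne1⟩ : ∃ θ1, Over lam θ1 ∧ θ1 ≠ θ0 := by
      by_contra hall
      simp only [not_exists, not_and, ne_eq, not_not] at hall
      refine hFne (Nat.card_eq_one_iff_unique.2 ⟨⟨fun u v => Subtype.ext ?_⟩, ⟨θ0, ho0⟩⟩)
      rw [hall u.1 u.2, hall v.1 v.2]
    have hfpfU : ∀ u ∈ U, α u * u⁻¹ ∈ commutator W → u ∈ commutator W := fun u _ => hαfpf u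
    have hdeg : Cfsg.charDegree (θ0 : W → ℂ) = Cfsg.charDegree (θ1 : W → ℂ) :=
      Nat.pow_left_injective two_ne_zero (Nat.eq_of_mul_eq_mul_right Nat.card_pos
        ((degree_sq hbr hcW ho0).trans (degree_sq hbr hcW ho1).symm))
    have hI1 : Char.inertia W (θ1 : W → ℂ) ≤ N0 := hIμ ▸ hθμ μ θ1 (hμlam.symm ▸ ho1)
    have hI0 : N0 ≤ Char.inertia W (θ0 : W → ℂ) := by
      intro n hn
      obtain ⟨w, hw, k, hk, rfl⟩ := Subgroup.mem_sup_of_normal_left.1
        (hsup ▸ Subgroup.mem_top n : n ∈ W ⊔ H)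
      have hwI := Char.le_inertia W (Char.IsCharacter.isClassFunction
        (Char.IsIrrCharacter.isCharacter θ0.2)) hw
      refine mul_mem hwI ?_
      have hkN : k ∈ N0 := by
        have := mul_mem (inv_mem (hWN0 hw)) hn
        rwa [inv_mul_cancel_left] at this
      have hkZ : ∀ z : commutator W, MulAut.conjNormal (H := W) k z = z := fun z =>
        Subtype.ext (by
          rw [MulAut.conjNormal_apply, ← Subgroup.mem_centralizer_iff.1 hkN _ (hZmap.2 z.2),
            mul_inv_cancel_right])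
      have hcomm : MulAut.conjNormal (H := W) k * α = α * MulAut.conjNormal k := by
        rw [hαdef, ← map_mul, ← map_mul, hab k hk h hhH]
      have h1 := fixed_unique hbr hcW α hαZ hfpfU
        (over_twist (MulAut.conjNormal k) hkZ ho0) ho0 (Subtype.ext (funext fun w => by
          show (θ0 : W → ℂ) ((MulAut.conjNormal (H := W) k * α) w) = _
          rw [hcomm]
          exact congrFun (congrArg Subtype.val hf0) _)) hf0
      rw [Char.mem_inertia_iff]
      intro w
      refine Eq.trans ?_ (congrFun (congrArg Subtype.val h1) w)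
      exact congrArg _ (Subtype.ext (MulAut.conjNormal_apply k w).symm)
    obtain ⟨ψ0, hψ0⟩ := degree_of_hall W hcop θ0
    obtain ⟨ψ1, hψ1⟩ := degree_of_hall W hcop θ1
    have h2 := D.anti ψ0 ψ1 (fun h1 => hlin θ0 μ hμ1 (hμlam.symm ▸ ho0)
        (Nat.eq_one_of_mul_eq_one_left (hψ0 ▸ h1)))
      (by rw [hψ0, hψ1, hdeg]
          exact Nat.mul_dvd_mul_right (Subgroup.index_dvd_of_le (hI1.trans hI0)) _)
    rw [hψ0, hψ1, hdeg] at h2
    have h3 : (Char.inertia W (θ0 : W → ℂ)).index = (Char.inertia W (θ1 : W → ℂ)).index :=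
      Nat.eq_of_mul_eq_mul_right (CharX.irr_deg_pos θ1) h2
    have h4 := Subgroup.relIndex_mul_index (hI1.trans hI0)
    rw [h3] at h4
    have h5 : h ∈ Char.inertia W (θ1 : W → ℂ) := Subgroup.relIndex_eq_one.1
      ((Nat.mul_eq_right Subgroup.index_ne_zero_of_finite).1 h4) (hI0 hhN0)
    refine hne1 (fixed_unique hbr hcW α hαZ hfpfU ho1 ho0 (Subtype.ext (funext fun w => ?_)) hf0)
    show (θ1 : W → ℂ) (α w) = (θ1 : W → ℂ) w
    refine Eq.trans ?_ ((Char.mem_inertia_iff W).1 h5 w)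
    exact congrArg _ (Subtype.ext (MulAut.conjNormal_apply h w))
  -- the commutator map from a non-central element
  obtain ⟨v, hv⟩ : ∃ v : W, v ∉ commutator W := by
    by_contra hall
    simp only [not_exists, not_not] at hall
    haveI : Nontrivial W := (Subgroup.nontrivial_iff_ne_bot W).2 hWne
    exact (Group.IsSolvable.commutator_lt_top_of_nontrivial W).ne (eq_top_iff.2 fun w _ => hall w)
  let f : W →* commutator W :=
    { toFun := fun w => ⟨⁅v, w⁆, hbr v w⟩
      map_one' := Subtype.ext (commutatorElement_one_right v)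
      map_mul' := fun a b => Subtype.ext (by
        show ⁅v, a * b⁆ = ⁅v, a⁆ * ⁅v, b⁆
        have h1 := Subgroup.mem_center_iff.1 (hcW (hbr v b)) a
        calc ⁅v, a * b⁆ = ⁅v, a⁆ * (a * ⁅v, b⁆) * a⁻¹ := by
              simp only [commutatorElement_def]; group
          _ = ⁅v, a⁆ * (⁅v, b⁆ * a) * a⁻¹ := by rw [h1]
          _ = _ := by group) }
  have hsurj : f.range = ⊤ := by
    by_contra htop
    obtain ⟨lam, hlam, hlam0⟩ := exists_ne_one_hom
      (fun a b => Subtype.ext (Subgroup.mem_center_iff.1 (hcW b.2) a.1)) f.range htop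
    exact hv (hrad lam hlam fun w => hlam0 _ ⟨w, rfl⟩)
  have hker : commutator W ≤ f.ker := fun z hz => MonoidHom.mem_ker.2 (Subtype.ext
    (commutatorElement_eq_one_iff_mul_comm.2 (Subgroup.mem_center_iff.1 (hcW hz) v)))
  have h1 : f.ker.index = Nat.card (commutator W) := by
    rw [Subgroup.index_ker, hsurj, Subgroup.card_top]
  have h2 : f.ker.index = (commutator W).index := by
    rw [h1, Nat.card_congr eW.toEquiv, hcard, ha, hac]
  have h3 := Subgroup.relIndex_mul_index hker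
  rw [h2] at h3
  exact hv (Subgroup.relIndex_eq_one.1
    ((Nat.mul_eq_right Subgroup.index_ne_zero_of_finite).1 h3)
    (MonoidHom.mem_ker.2 (Subtype.ext (commutatorElement_self v))))

end Hyp

end Cfsg.Agent.TwoComp
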