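import Cfsg.Agent.Lib.TwoComp.Basic
import Cfsg.Agent.Lib.Char.DegreeCenter

/-!
# Characters over a central character of a group of class two
-/

set_option autoImplicit false
set_option linter.style.haveILetI false
set_option linter.unusedSectionVars false

namespace Cfsg.Agent.TwoComp

open Cfsg.Agent
open scoped commutatorElement ComplexConjugate

universe u

variable {W : Type u} [Group W] [Finite W] {Z : Subgroup W}

/-- The character restricts to a multiple of `lam`. -/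
def Over (lam : Z →* ℂˣ) (θ : Cfsg.IrrCharacter W) : Prop :=
  ∀ z : Z, (θ : W → ℂ) z = (lam z : ℂ) * (θ : W → ℂ) 1

/-- The radical of the pairing of `lam`. -/
def radical (hc : ∀ a b : W, ⁅a, b⁆ ∈ Z) (hZ : Z ≤ Subgroup.center W) (lam : Z →* ℂˣ) :
    Subgroup W where
  carrier := {u | ∀ w, lam ⟨⁅u, w⁆, hc u w⟩ = 1}
  one_mem' w := by
    rw [show (⟨⁅1, w⁆, hc 1 w⟩ : Z) = 1 from Subtype.ext (commutatorElement_one_left w), map_one]
  mul_mem' := fun {a b} ha hb w => by
    have e : (⟨⁅a * b, w⁆, hc _ w⟩ : Z) = ⟨⁅b, w⁆, hc b w⟩ * ⟨⁅a, w⁆, hc a w⟩ := by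
      refine Subtype.ext ?_
      show ⁅a * b, w⁆ = ⁅b, w⁆ * ⁅a, w⁆
      have h1 := Subgroup.mem_center_iff.1 (hZ (hc b w)) a
      calc ⁅a * b, w⁆ = a * ⁅b, w⁆ * (w * a⁻¹ * w⁻¹) := by
            simp only [commutatorElement_def]; group
        _ = ⁅b, w⁆ * a * (w * a⁻¹ * w⁻¹) := by rw [h1]
        _ = ⁅b, w⁆ * ⁅a, w⁆ := by simp only [commutatorElement_def]; group
    rw [e, map_mul, ha w, hb w, one_mul]
  inv_mem' := fun {a} ha w => by
    have e : (⟨⁅a⁻¹, w⁆, hc _ w⟩ : Z) = (⟨⁅a, w⁆, hc a w⟩)⁻¹ := by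
      refine Subtype.ext ?_
      show ⁅a⁻¹, w⁆ = ⁅a, w⁆⁻¹
      have h1 := Subgroup.mem_center_iff.1 (hZ (inv_mem (hc a w))) a⁻¹
      calc ⁅a⁻¹, w⁆ = a⁻¹ * ⁅a, w⁆⁻¹ * a := by simp only [commutatorElement_def]; group
        _ = ⁅a, w⁆⁻¹ * a⁻¹ * a := by rw [h1]
        _ = _ := inv_mul_cancel_right _ _
    rw [e, map_inv, ha w, inv_one]

variable (hc : ∀ a b : W, ⁅a, b⁆ ∈ Z) (hZ : Z ≤ Subgroup.center W) {lam : Z →* ℂˣ}

theorem le_radical : Z ≤ radical hc hZ lam := fun z hz w => by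
  rw [show (⟨⁅z, w⁆, hc z w⟩ : Z) = 1 from Subtype.ext
    (commutatorElement_eq_one_iff_mul_comm.2 (Subgroup.mem_center_iff.1 (hZ hz) w).symm), map_one]

include hZ in
theorem over_mul {θ : Cfsg.IrrCharacter W} (h : Over lam θ) (z : Z) (g : W) :
    (θ : W → ℂ) ((z : W) * g) = (lam z : ℂ) * (θ : W → ℂ) g := by
  obtain ⟨c, -, hc', -⟩ := Char.IsIrrCharacter.exists_central_scalar θ.2 (hZ z.2)
  have h1 := hc' 1
  rw [mul_one, h z] at h1
  rw [hc', mul_right_cancel₀ (Char.IsIrrCharacter.one_ne_zero θ.2) h1]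

theorem vanish {θ : Cfsg.IrrCharacter W} (h : Over lam θ) {u : W}
    (hu : u ∉ radical hc hZ lam) : (θ : W → ℂ) u = 0 := by
  have hu' : ¬ ∀ w, lam ⟨⁅u, w⁆, hc u w⟩ = 1 := hu
  obtain ⟨w, hw⟩ := not_forall.1 hu'
  have h1 := Char.IsCharacter.isClassFunction (Char.IsIrrCharacter.isCharacter θ.2) u w
  have h2 : w * u * w⁻¹ = ((⟨⁅u, w⁆, hc u w⟩ : Z)⁻¹ : Z) * u := by
    simp [commutatorElement_def, mul_assoc]
  rw [h2, over_mul hZ h] at h1
  have h3 : (((lam (⟨⁅u, w⁆, hc u w⟩ : Z)⁻¹ : ℂˣ) : ℂ) - 1) * (θ : W → ℂ) u = 0 := by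
    rw [sub_mul, h1, one_mul, sub_self]
  refine (mul_eq_zero.1 h3).resolve_left fun e => hw ?_
  have h4 : lam (⟨⁅u, w⁆, hc u w⟩ : Z)⁻¹ = 1 := Units.ext (sub_eq_zero.1 e)
  rw [map_inv, inv_eq_one] at h4
  exact h4

theorem scalar {θ : Cfsg.IrrCharacter W} (h : Over lam θ) {u : W}
    (hu : u ∈ radical hc hZ lam) :
    ∃ c : ℂ, ‖c‖ = 1 ∧ ∀ g, (θ : W → ℂ) (u * g) = c * (θ : W → ℂ) g := by
  haveI := Fintype.ofFinite W
  obtain ⟨K, hK, hmem, -, -⟩ := CharX.exists_ker θ
  haveI := hK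
  obtain ⟨θ', -, he, hirr⟩ :=
    Char.IsCharacter.deflate (Char.IsIrrCharacter.isCharacter θ.2) K (fun x hx => (hmem x).1 hx)
  have hcen : (u : W ⧸ K) ∈ Subgroup.center (W ⧸ K) := by
    rw [Subgroup.mem_center_iff]
    intro g
    obtain ⟨w, rfl⟩ := QuotientGroup.mk_surjective g
    symm
    rw [← commutatorElement_eq_one_iff_mul_comm]
    refine (QuotientGroup.eq_one_iff ⁅u, w⁆).2 ((hmem _).2 ?_)
    rw [h ⟨⁅u, w⁆, hc u w⟩, hu w, Units.val_one, one_mul]
  obtain ⟨c, hc1, hc2, -⟩ := Char.IsIrrCharacter.exists_central_scalar (hirr θ.2) hcen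
  exact ⟨c, hc1, fun g => by rw [← he, ← he, ← hc2]; rfl⟩

theorem degree_sq {θ : Cfsg.IrrCharacter W} (h : Over lam θ) :
    Cfsg.charDegree (θ : W → ℂ) ^ 2 * Nat.card (radical hc hZ lam) = Nat.card W := by
  classical
  haveI := Fintype.ofFinite W
  set U := radical hc hZ lam
  have h1 := Char.classInner_self_irr θ.2
  rw [Cfsg.classInner, inv_mul_eq_one₀ (Nat.cast_ne_zero.2 Nat.card_pos.ne')] at h1
  have h2 : ∀ g : W, (θ : W → ℂ) g * conj ((θ : W → ℂ) g) =
      if g ∈ U then ((Cfsg.charDegree (θ : W → ℂ) : ℂ) ^ 2) else 0 := by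
    intro g
    split_ifs with hg
    · obtain ⟨c, hc1, hc2⟩ := scalar hc hZ h hg
      have h3 := hc2 1
      rw [mul_one] at h3
      rw [h3, Complex.mul_conj', norm_mul, hc1, one_mul, CharX.irr_deg, Complex.norm_natCast]
      push_cast
      rfl
    · rw [vanish hc hZ h hg, zero_mul]
  rw [Finset.sum_congr rfl fun g _ => h2 g, Finset.sum_ite, Finset.sum_const_zero, add_zero,
    Finset.sum_const, nsmul_eq_mul, ← Fintype.card_subtype] at h1
  have e : Fintype.card {g // g ∈ U} = Nat.card U := Nat.card_eq_fintype_card.symm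
  rw [e] at h1
  rw [mul_comm]
  exact_mod_cast h1.symm

/-- Constituents on the central subgroup. -/
theorem over_or_zero [Fintype Z] (hZ : Z ≤ Subgroup.center W) (lam : Z →* ℂˣ)
    (θ : Cfsg.IrrCharacter W) :
    (Cfsg.classInner (fun z : Z => (θ : W → ℂ) z) (fun z => (lam z : ℂ)) =
        (θ : W → ℂ) 1 ∧ Over lam θ) ∨
      (Cfsg.classInner (fun z : Z => (θ : W → ℂ) z) (fun z => (lam z : ℂ)) = 0 ∧
        ¬ Over lam θ) := by
  classical
  haveI := Fintype.ofFinite W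
  choose c hc1 hc2 hc3 using fun z : Z =>
    Char.IsIrrCharacter.exists_central_scalar θ.2 (hZ z.2)
  have hθ1 := Char.IsIrrCharacter.one_ne_zero θ.2
  have hval : ∀ z : Z, (θ : W → ℂ) z = c z * (θ : W → ℂ) 1 := fun z => by
    simpa using hc2 z 1
  let f : Z →* ℂ :=
    { toFun := c
      map_one' := mul_right_cancel₀ hθ1 (by rw [← hval, one_mul]; rfl)
      map_mul' := fun a b => mul_right_cancel₀ hθ1 (by
        rw [← hval, Subgroup.coe_mul, hc2 a, hval b, mul_assoc]) }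
  let g : Z →* ℂˣ := f.toHomUnits
  have hfun : (fun z : Z => (θ : W → ℂ) z) = (θ : W → ℂ) 1 • fun z => (g z : ℂ) :=
    funext fun z => by rw [Pi.smul_apply, smul_eq_mul, hval, mul_comm]; rfl
  rw [hfun, Char.classInner_smul_left,
    Char.classInner_irr (Char.isIrrCharacter_linear g) (Char.isIrrCharacter_linear lam)]
  split_ifs with e
  · exact Or.inl ⟨mul_one _, fun z => by rw [hval]; congr 1; exact congrFun e z⟩
  · refine Or.inr ⟨mul_zero _, fun hov => e (funext fun z => ?_)⟩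
    exact mul_right_cancel₀ hθ1 ((hval z).symm.trans (hov z))

include hc hZ in
theorem card_over (lam : Z →* ℂˣ) :
    Nat.card {θ : Cfsg.IrrCharacter W // Over lam θ} * Nat.card Z =
      Nat.card (radical hc hZ lam) := by
  classical
  haveI := Fintype.ofFinite W
  haveI : Fintype Z := Fintype.ofFinite Z
  have hI := Char.isCharacter_indFun Z
    (Char.IsIrrCharacter.isCharacter (Char.isIrrCharacter_linear lam))
  have h1 := congrFun (Char.IsCharacter.eq_sum hI) 1
  rw [Char.indFun_one_apply, map_one, Units.val_one, mul_one, Finset.sum_apply] at h1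
  have h2 : ∀ θ : Cfsg.IrrCharacter W,
      (Cfsg.classInner (Cfsg.indFun Z fun z => (lam z : ℂ)) (θ : W → ℂ) • (θ : W → ℂ)) 1 =
        if Over lam θ then ((Cfsg.charDegree (θ : W → ℂ) : ℂ) ^ 2) else 0 := by
    intro θ
    rw [Pi.smul_apply, smul_eq_mul, Char.classInner_indFun_left Z _
      (Char.IsCharacter.isClassFunction (Char.IsIrrCharacter.isCharacter θ.2)),
      Char.classInner_comm_of_isCharacter
        (Char.IsIrrCharacter.isCharacter (Char.isIrrCharacter_linear lam))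
        (Char.IsCharacter.restrict (Char.IsIrrCharacter.isCharacter θ.2) Z)]
    rcases over_or_zero hZ lam θ with ⟨e, ho⟩ | ⟨e, ho⟩
    · rw [if_pos ho, e, CharX.irr_deg, sq]
    · rw [if_neg ho, e, zero_mul]
  rw [Finset.sum_congr rfl fun θ _ => h2 θ] at h1
  have h1' : Z.index = ∑ θ, if Over lam θ then Cfsg.charDegree (θ : W → ℂ) ^ 2 else 0 := by
    refine Nat.cast_injective (R := ℂ) ?_
    rw [h1, Nat.cast_sum]
    exact Finset.sum_congr rfl fun θ _ => by split_ifs <;> simp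
  refine Nat.eq_of_mul_eq_mul_left (Nat.card_pos (α := W)) ?_
  have key : Z.index * Nat.card (radical hc hZ lam) =
      Nat.card {θ : Cfsg.IrrCharacter W // Over lam θ} * Nat.card W := by
    rw [h1', Finset.sum_mul, Nat.card_eq_fintype_card (α := {θ : Cfsg.IrrCharacter W // Over lam θ}),
      Fintype.card_subtype, Finset.sum_congr rfl fun θ _ => show _ = if Over lam θ then Nat.card W else 0
        by split_ifs with ho
           · exact degree_sq hc hZ ho
           · exact zero_mul _, Finset.sum_ite, Finset.sum_const_zero, add_zero, Finset.sum_const,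
      smul_eq_mul]
  calc Nat.card W * (Nat.card {θ : Cfsg.IrrCharacter W // Over lam θ} * Nat.card Z)
      = Nat.card {θ : Cfsg.IrrCharacter W // Over lam θ} * Nat.card W * Nat.card Z := by ring
    _ = Z.index * Nat.card (radical hc hZ lam) * Nat.card Z := by rw [key]
    _ = Z.index * Nat.card Z * Nat.card (radical hc hZ lam) := by ring
    _ = Nat.card W * Nat.card (radical hc hZ lam) := by rw [Subgroup.index_mul_card]

variable (α : MulAut W)

/-- The image of a character under an automorphism. -/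
def twist (θ : Cfsg.IrrCharacter W) : Cfsg.IrrCharacter W :=
  ⟨fun w => (θ : W → ℂ) (α w), Char.IsIrrCharacter.comp θ.2 α.toMonoidHom α.surjective⟩

theorem over_twist (hα : ∀ z : Z, α z = z) {θ : Cfsg.IrrCharacter W} (h : Over lam θ) :
    Over lam (twist α θ) := fun z => by
  show (θ : W → ℂ) (α z) = _ * (θ : W → ℂ) (α 1)
  rw [hα, map_one, h]

theorem radical_map (hα : ∀ z : Z, α z = z) {u : W} (hu : u ∈ radical hc hZ lam) :
    α u ∈ radical hc hZ lam := by
  intro w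
  obtain ⟨w, rfl⟩ := α.surjective w
  have e : (⟨⁅α u, α w⁆, hc _ _⟩ : Z) = ⟨⁅u, w⁆, hc u w⟩ :=
    Subtype.ext ((map_commutatorElement α.toMonoidHom u w).symm.trans (hα ⟨_, hc u w⟩))
  rw [e, hu w]

/-- A fixed-point-free automorphism fixes only one character over `lam`. -/
theorem fixed_unique (hα : ∀ z : Z, α z = z)
    (hfpf : ∀ u ∈ radical hc hZ lam, α u * u⁻¹ ∈ Z → u ∈ Z) {θ θ' : Cfsg.IrrCharacter W}
    (hθ : Over lam θ) (hθ' : Over lam θ') (hf : twist α θ = θ) (hf' : twist α θ' = θ') :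
    θ = θ' := by
  classical
  set U := radical hc hZ lam with hU
  haveI : Z.Normal := ⟨fun z hz g => by
    rw [Subgroup.mem_center_iff.1 (hZ hz) g, mul_inv_cancel_right]; exact hz⟩
  haveI : (Z.subgroupOf U).Normal := inferInstance
  let T : U ⧸ Z.subgroupOf U → U ⧸ Z.subgroupOf U := fun q =>
    ((⟨α (q.out : U) * (q.out : W)⁻¹, U.mul_mem (radical_map hc hZ α hα q.out.2)
      (U.inv_mem q.out.2)⟩ : U) : U ⧸ Z.subgroupOf U)
  have hcomm : ∀ a b : W ⧸ Z, a * b = b * a := by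
    intro a b
    obtain ⟨a, rfl⟩ := QuotientGroup.mk_surjective a
    obtain ⟨b, rfl⟩ := QuotientGroup.mk_surjective b
    exact commutatorElement_eq_one_iff_mul_comm.1 ((QuotientGroup.eq_one_iff ⁅a, b⁆).2 (hc a b))
  have hT : Function.Injective T := by
    intro a b hab
    have h1 := Subgroup.mem_subgroupOf.1 (QuotientGroup.eq.1 hab)
    rw [← QuotientGroup.out_eq' a, ← QuotientGroup.out_eq' b]
    refine QuotientGroup.eq.2 (Subgroup.mem_subgroupOf.2 ?_)
    set x := (a.out : W)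
    set y := (b.out : W)
    show x⁻¹ * y ∈ Z
    refine hfpf _ (U.mul_mem (U.inv_mem a.out.2) b.out.2) ?_
    rw [← QuotientGroup.eq_one_iff] at h1 ⊢
    simp only [Subgroup.coe_mul, Subgroup.coe_inv, mul_inv_rev, inv_inv, map_mul, map_inv,
      QuotientGroup.mk_mul, QuotientGroup.mk_inv] at h1 ⊢
    rw [← h1]
    letI : CommGroup (W ⧸ Z) := { (inferInstance : Group (W ⧸ Z)) with mul_comm := hcomm }
    simp [mul_assoc, mul_comm, mul_left_comm, x, y]
  have hval : ∀ u ∈ U, ∃ z : Z, ∀ η : Cfsg.IrrCharacter W, Over lam η → twist α η = η →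
      (η : W → ℂ) u = (lam z : ℂ) * (η : W → ℂ) 1 := by
    intro u hu
    obtain ⟨q, hq⟩ := (Finite.injective_iff_surjective.1 hT) ((⟨u, hu⟩ : U) : U ⧸ Z.subgroupOf U)
    set v := (q.out : W)
    set z : Z := ⟨(α v * v⁻¹)⁻¹ * u, Subgroup.mem_subgroupOf.1 (QuotientGroup.eq.1 hq)⟩
    refine ⟨z, fun η hη hfix => ?_⟩
    have e : u = (z : W) * (α v * v⁻¹) := by
      rw [← Subgroup.mem_center_iff.1 (hZ z.2)]
      simp [z, mul_assoc]
    have h2 : (η : W → ℂ) (α v * v⁻¹) = (η : W → ℂ) 1 := by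
      obtain ⟨c, -, hcv⟩ := scalar hc hZ hη q.out.2
      obtain ⟨c', -, hcv'⟩ := scalar hc hZ hη (radical_map hc hZ α hα q.out.2)
      have e1 := hcv 1
      have e2 := hcv' 1
      rw [mul_one] at e1 e2
      rw [show (η : W → ℂ) (α v) = (η : W → ℂ) v from congrFun (congrArg Subtype.val hfix) v,
        e1] at e2
      rw [hcv', ← mul_right_cancel₀ (Char.IsIrrCharacter.one_ne_zero η.2) e2, ← hcv,
        mul_inv_cancel]
    rw [e, over_mul hZ hη, h2]
  have hdeg : (θ : W → ℂ) 1 = (θ' : W → ℂ) 1 := by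
    rw [CharX.irr_deg, CharX.irr_deg]
    have := (degree_sq hc hZ hθ).trans (degree_sq hc hZ hθ').symm
    rw [Nat.pow_left_injective two_ne_zero (Nat.eq_of_mul_eq_mul_right Nat.card_pos this)]
  refine Subtype.ext (funext fun u => ?_)
  by_cases hu : u ∈ U
  · obtain ⟨z, hz⟩ := hval u hu
    rw [hz θ hθ hf, hz θ' hθ' hf', hdeg]
  · rw [vanish hc hZ hθ hu, vanish hc hZ hθ' hu]

end Cfsg.Agent.TwoComp
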