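import Cfsg.Agent.Lib.TwoComp.Deg
import Cfsg.Agent.Lib.Solvable.Structure

/-!
# The common stabiliser of the linear characters of the derived subgroup
-/

set_option autoImplicit false
set_option linter.style.haveILetI false
set_option linter.unusedSectionVars false

namespace Cfsg.Agent.TwoComp

open Cfsg.Agent
open scoped commutatorElement

universe u

variable {N : Type u} [Group N] [Finite N]

/-- Linear characters detect the derived subgroup. -/
theorem mem_commutator_of_forall (S : Subgroup N) {u : N} (hu : u ∈ S)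
    (h : ∀ μ : S →* ℂˣ, μ ⟨u, hu⟩ = 1) : u ∈ ⁅S, S⁆ := by
  rw [← Subgroup.map_subtype_commutator]
  refine ⟨⟨u, hu⟩, ?_, rfl⟩
  by_contra hne
  haveI : Finite (Abelianization S) := inferInstanceAs (Finite (S ⧸ commutator S))
  haveI : IsMulCommutative (Abelianization S) := ⟨⟨fun a b => mul_comm a b⟩⟩
  obtain ⟨l, hl⟩ := ThreePrimes.exists_linear_ne_one (A := Abelianization S)
    (a := Abelianization.of (⟨u, hu⟩ : S)) fun e => hne
      ((QuotientGroup.eq_one_iff (N := commutator S) _).1 e)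
  exact hl (h (l.comp Abelianization.of))

theorem map_mem_bracket (φ : MulAut N) {S : Subgroup N} (hS : ∀ s ∈ S, φ s ∈ S) {z : N}
    (hz : z ∈ ⁅S, S⁆) : φ z ∈ ⁅S, S⁆ := by
  have h : (⁅S, S⁆).map φ.toMonoidHom ≤ ⁅S, S⁆ := by
    rw [Subgroup.map_commutator]
    exact Subgroup.commutator_mono (by rintro _ ⟨s, hs, rfl⟩; exact hS s hs)
      (by rintro _ ⟨s, hs, rfl⟩; exact hS s hs)
  exact h ⟨z, hz, rfl⟩

variable {φ : MulAut N} {p q : ℕ}

/-- What the common stabiliser gives. -/
structure Stab (N : Type u) [Group N] [Finite N] (φ : MulAut N) (p : ℕ) (R : Subgroup N) : Prop where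
  normal : R.Normal
  le : commutator N ≤ R
  map : ∀ r ∈ R, φ r ∈ R
  unmoved : R ≤ fixMod φ (commutator N)
  copr : ¬ p ∣ R.index
  degree : ∃ χ : Cfsg.IrrCharacter N, Cfsg.charDegree (χ : N → ℂ) = R.index ∧
    Cfsg.charDegree (χ : N → ℂ) ≠ 1
  inertia : ∀ μ : commutator N →* ℂˣ, μ ≠ 1 →
    (Char.inertia (commutator N) fun n : commutator N => (μ n : ℂ)) = R
  fix : ∀ r ∈ R, ∀ μ : commutator N →* ℂˣ,
    r ∈ Char.inertia (commutator N) fun n : commutator N => (μ n : ℂ)
  cent : ∀ r ∈ R, ∀ w ∈ commutator N, r * w * r⁻¹ * w⁻¹ ∈ ⁅commutator N, commutator N⁆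
  fpf : ∀ n : N, n ∉ R → ∀ u ∈ commutator N,
    n * u * n⁻¹ * u⁻¹ ∈ ⁅commutator N, commutator N⁆ → u ∈ ⁅commutator N, commutator N⁆

variable (D : Hyp N φ p q) (hW : (Nat.card (commutator N)).Coprime q)
include D hW

theorem Hyp.exists_stab (hne : commutator N ≠ ⊥) :
    (∃ μ : commutator N →* ℂˣ, μ ≠ 1) ∧ ∃ R : Subgroup N, Stab N φ p R := by
  classical
  haveI := Fintype.ofFinite N
  haveI : Fintype (commutator N) := Fintype.ofFinite _
  set W := commutator N with hWdef
  haveI := D.nilpotent hW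
  obtain ⟨u, hu, hu'⟩ : ∃ u ∈ W, u ∉ ⁅W, W⁆ := by
    by_contra hall
    simp only [not_exists, not_and, not_not] at hall
    haveI : Nontrivial W := (Subgroup.nontrivial_iff_ne_bot W).2 hne
    refine (Group.IsSolvable.commutator_lt_top_of_nontrivial W).ne
      (Subgroup.map_injective W.subtype_injective ?_)
    rw [Subgroup.map_subtype_commutator, ← MonoidHom.range_eq_map, Subgroup.range_subtype]
    exact le_antisymm (Subgroup.commutator_le_left W W) hall
  obtain ⟨μ, hμ⟩ : ∃ μ : W →* ℂˣ, μ ≠ 1 := by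
    by_contra hall
    simp only [not_exists, not_not] at hall
    exact hu' (mem_commutator_of_forall W hu fun μ => by rw [hall μ, MonoidHom.one_apply])
  refine ⟨⟨μ, hμ⟩, Char.inertia W (fun n : W => (μ n : ℂ)), ?_⟩
  set R := Char.inertia W (fun n : W => (μ n : ℂ)) with hR
  have hWR : W ≤ R := Char.le_inertia W
    (Char.IsCharacter.isClassFunction (Char.IsIrrCharacter.isCharacter (Char.isIrrCharacter_linear μ)))
  have hin : ∀ ν : W →* ℂˣ, ν ≠ 1 → (Char.inertia W fun n : W => (ν n : ℂ)) = R := fun ν hν =>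
    D.inertia_eq hW hν hμ
  have hfix : ∀ r ∈ R, ∀ ν : W →* ℂˣ, r ∈ Char.inertia W fun n : W => (ν n : ℂ) := by
    intro r hr ν
    by_cases hν : ν = 1
    · subst hν
      rw [ThreePrimes.mem_inertia_linear]
      exact fun a b _ => rfl
    · rw [hin ν hν]; exact hr
  obtain ⟨χ, -, hχ, hχ1⟩ := D.deg_inertia hW hμ
  refine ⟨⟨fun a ha g => ?_⟩, hWR, fun r hr => ?_, fun r hr => ?_, hχ ▸ D.copr χ hχ1,
    ⟨χ, hχ, hχ1⟩, hin, hfix, fun r hr w hw => ?_, fun n hn u hu hnu => ?_⟩
  · have h1 : ⁅g, a⁆ ∈ R := hWR (Subgroup.commutator_mem_commutator (Subgroup.mem_top g)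
      (Subgroup.mem_top a))
    have h2 := mul_mem h1 ha
    rwa [commutatorElement_def, inv_mul_cancel_right] at h2
  · rw [hR, ThreePrimes.mem_inertia_linear]
    intro a b hb
    let e : W →* W :=
      { toFun := fun s => ⟨φ s, map_mem_commutator φ s.2⟩
        map_one' := Subtype.ext (map_one _)
        map_mul' := fun x y => Subtype.ext (map_mul _ _ _) }
    have he : Function.Surjective e := fun s => ⟨⟨φ.symm s,
      symm_mem (fun t ht => map_mem_commutator φ ht) s.2⟩, Subtype.ext (φ.apply_symm_apply _)⟩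
    obtain ⟨a, rfl⟩ := he a
    obtain ⟨b, rfl⟩ := he b
    refine (ThreePrimes.mem_inertia_linear W).1 (hfix r hr (μ.comp e)) a b (φ.injective ?_)
    rw [map_mul, map_mul, map_inv]
    exact hb
  · exact D.unmoved_of_inertia hW le_rfl hμ hr
  · refine mem_commutator_of_forall W (W.mul_mem
      ((inferInstance : W.Normal).conj_mem w hw r) (W.inv_mem hw)) fun ν => ?_
    have h1 := (ThreePrimes.mem_inertia_linear W).1 (hfix r hr ν) ⟨w, hw⟩
      ⟨r * w * r⁻¹, (inferInstance : W.Normal).conj_mem w hw r⟩ rfl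
    rw [show (⟨r * w * r⁻¹ * w⁻¹, _⟩ : W) = ⟨r * w * r⁻¹,
      (inferInstance : W.Normal).conj_mem w hw r⟩ * ⟨w, hw⟩⁻¹ from rfl, map_mul, map_inv, h1,
      mul_inv_cancel]
  · refine mem_commutator_of_forall W hu fun ν => ?_
    haveI : Finite (W →* ℂˣ) := ThreePrimes.finite_hom W
    let T : (W →* ℂˣ) → (W →* ℂˣ) := fun ν => ν.comp (Char.conjHom W n) * ν⁻¹
    have hT : Function.Injective T := by
      intro a b h
      by_contra hab
      refine hn ((hin (a * b⁻¹) fun e => hab ?_) ▸ ?_)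
      · exact mul_inv_eq_one.1 e
      · rw [ThreePrimes.mem_inertia_linear]
        intro s t ht
        have h2 := DFunLike.congr_fun h s
        simp only [T, MonoidHom.mul_apply, MonoidHom.inv_apply, MonoidHom.comp_apply] at h2
        rw [show t = Char.conjHom W n s from Subtype.ext ht, MonoidHom.mul_apply,
          MonoidHom.mul_apply, MonoidHom.inv_apply, MonoidHom.inv_apply]
        rw [mul_inv_eq_iff_eq_mul] at h2
        rw [h2]
        simp [mul_comm, mul_assoc]
    obtain ⟨ρ, hρ⟩ := (Finite.injective_iff_surjective.1 hT) ν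
    rw [← hρ]
    show ρ (Char.conjHom W n ⟨u, hu⟩) * (ρ ⟨u, hu⟩)⁻¹ = 1
    rw [← map_inv, ← map_mul]
    have h3 : (Char.conjHom W n ⟨u, hu⟩ * (⟨u, hu⟩ : W)⁻¹) ∈ commutator W := by
      rw [← Subgroup.map_subtype_commutator] at hnu
      obtain ⟨c, hc, e⟩ := hnu
      rwa [show (Char.conjHom W n ⟨u, hu⟩ * (⟨u, hu⟩ : W)⁻¹) = c from Subtype.ext e.symm]
    exact MonoidHom.mem_ker.1 (Abelianization.commutator_subset_ker ρ h3)

end Cfsg.Agent.TwoComp
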